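import Cfsg.Agent.Lib.HallHigman.FixedPoints
import Cfsg.Agent.Lib.Struct77.InvertedBound

/-!
# Automorphisms of order three of groups of order prime to three

Elementary fixed-point facts: lifting of fixed points to invariant cosets, invariant Sylow
subgroups and their conjugacy under the fixed-point subgroup.
-/

set_option autoImplicit false
set_option linter.unusedSectionVars false

namespace CfsgLib.FpfSymThree

open Subgroup
open scoped Pointwise

variable {G : Type*} [Group G]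

/-- The fixed points of an automorphism, as a subgroup. -/
def fixedSub (σ : MulAut G) : Subgroup G where
  carrier := {x | σ x = x}
  one_mem' := map_one σ
  mul_mem' {x y} hx hy := by
    show σ (x * y) = x * y
    rw [map_mul, show σ x = x from hx, show σ y = y from hy]
  inv_mem' {x} hx := by
    show σ x⁻¹ = x⁻¹
    rw [map_inv, show σ x = x from hx]

theorem mem_fixedSub {σ : MulAut G} {x : G} : x ∈ fixedSub σ ↔ σ x = x := Iff.rfl

theorem coe_fixedSub (σ : MulAut G) : (fixedSub σ : Set G) = {g : G | σ g = g} := rfl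

theorem pow_three_apply {σ : MulAut G} (hσ : σ ^ 3 = 1) (x : G) : σ (σ (σ x)) = x := by
  have h := DFunLike.congr_fun hσ x
  simpa [pow_succ] using h

theorem map_eq_of_mapsTo [Finite G] {α : MulAut G} {H : Subgroup G} (h : ∀ x ∈ H, α x ∈ H) :
    H.map α.toMonoidHom = H :=
  Subgroup.eq_of_le_of_card_ge (by rintro _ ⟨x, hx, rfl⟩; exact h x hx)
    (le_of_eq (Subgroup.card_map_of_injective (f := α.toMonoidHom) α.injective).symm)

theorem mem_of_map_eq {α : MulAut G} {H : Subgroup G} (h : H.map α.toMonoidHom = H) {x : G}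
    (hx : x ∈ H) : α x ∈ H := h ▸ ⟨x, hx, rfl⟩

theorem eq_one_of_pow_three [Finite G] (h3 : ¬ 3 ∣ Nat.card G) {x : G} (hx : x ^ 3 = 1) : x = 1 := by
  rw [← orderOf_eq_one_iff]
  refine Nat.eq_one_of_dvd_coprimes ((Nat.prime_three.coprime_iff_not_dvd).2 h3)
    (orderOf_dvd_of_pow_eq_one hx) (orderOf_dvd_natCard x)

theorem exists_fixed_point {α : Type*} [Finite α] (h : ¬ 3 ∣ Nat.card α) (f : α ≃ α)
    (hf : ∀ x, f (f (f x)) = x) : ∃ a, f a = a := by
  classical
  haveI := Fintype.ofFinite α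
  haveI : Fact (Nat.Prime 3) := ⟨Nat.prime_three⟩
  refine Equiv.Perm.exists_fixed_point_of_prime (p := 3) (n := 1)
    (by rwa [← Nat.card_eq_fintype_card]) (Equiv.ext fun x => ?_)
  simpa [pow_succ] using hf x

variable [Finite G]

/-- An invariant coset of an invariant subgroup contains a fixed point. -/
theorem exists_fixed_mem {σ : MulAut G} (hσ : σ ^ 3 = 1) (h3 : ¬ 3 ∣ Nat.card G) (N : Subgroup G)
    (hN : ∀ x ∈ N, σ x ∈ N) {g : G} (hg : g⁻¹ * σ g ∈ N) : ∃ c, σ c = c ∧ g⁻¹ * c ∈ N := by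
  have hmaps : ∀ x : G, g⁻¹ * x ∈ N → g⁻¹ * σ x ∈ N := fun x hx => by
    have h1 := N.mul_mem hg (hN _ hx)
    rwa [map_mul, map_inv, ← mul_assoc, mul_assoc g⁻¹ (σ g) (σ g)⁻¹, mul_inv_cancel, mul_one] at h1
  let f : {x : G // g⁻¹ * x ∈ N} → {x : G // g⁻¹ * x ∈ N} := fun x => ⟨σ x, hmaps x x.2⟩
  have hf : ∀ x, f (f (f x)) = x := fun x => Subtype.ext (pow_three_apply hσ (x : G))
  let e : {x : G // g⁻¹ * x ∈ N} ≃ {x : G // g⁻¹ * x ∈ N} := ⟨f, f ∘ f, fun x => hf x, fun x => hf x⟩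
  have hcard : Nat.card {x : G // g⁻¹ * x ∈ N} = Nat.card N := Nat.card_congr
    { toFun := fun x => ⟨g⁻¹ * x, x.2⟩
      invFun := fun n => ⟨g * n, by simp⟩
      left_inv := fun x => by simp
      right_inv := fun n => by simp }
  obtain ⟨a, ha⟩ := exists_fixed_point
    (by rw [hcard]; exact fun h => h3 (h.trans (Subgroup.card_subgroup_dvd_card N))) e hf
  exact ⟨a, congrArg Subtype.val ha, a.2⟩

theorem mapsTo_of_smul_eq {σ : MulAut G} {p : ℕ} {Q : Sylow p G} (h : σ • Q = Q) :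
    ∀ x ∈ (Q : Subgroup G), σ x ∈ (Q : Subgroup G) := fun x hx => by
  have h1 : σ • x ∈ σ • (Q : Subgroup G) := Subgroup.smul_mem_pointwise_smul x σ _ hx
  rw [← Sylow.pointwise_smul_def, h] at h1
  exact h1

theorem smul_eq_of_mapsTo {σ : MulAut G} {p : ℕ} {Q : Sylow p G}
    (h : ∀ x ∈ (Q : Subgroup G), σ x ∈ (Q : Subgroup G)) : σ • Q = Q :=
  Sylow.ext (map_eq_of_mapsTo (α := σ) h)

/-- Invariant Sylow subgroups exist. -/
theorem exists_invariant_sylow {σ : MulAut G} (hσ : σ ^ 3 = 1) (h3 : ¬ 3 ∣ Nat.card G) (q : ℕ)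
    [Fact q.Prime] : ∃ Q : Sylow q G, ∀ x ∈ (Q : Subgroup G), σ x ∈ (Q : Subgroup G) := by
  obtain ⟨P⟩ := (inferInstance : Nonempty (Sylow q G))
  have hc : ¬ 3 ∣ Nat.card (Sylow q G) := fun h =>
    h3 (h.trans ((P.card_dvd_index).trans (Subgroup.index_dvd_card _)))
  obtain ⟨Q, hQ⟩ := exists_fixed_point hc (MulAction.toPerm σ) (fun Q => by
    show σ • σ • σ • Q = Q
    rw [smul_smul, smul_smul, mul_assoc, ← pow_two, ← pow_succ', hσ, one_smul])
  exact ⟨Q, mapsTo_of_smul_eq hQ⟩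

/-- Two invariant Sylow subgroups are conjugate under a fixed point. -/
theorem exists_fixed_conj {σ : MulAut G} (hσ : σ ^ 3 = 1) (h3 : ¬ 3 ∣ Nat.card G) {q : ℕ}
    [Fact q.Prime] {P Q : Sylow q G} (hP : ∀ x ∈ (P : Subgroup G), σ x ∈ (P : Subgroup G))
    (hQ : ∀ x ∈ (Q : Subgroup G), σ x ∈ (Q : Subgroup G)) :
    ∃ c, σ c = c ∧ c • P = Q := by
  obtain ⟨g, hg⟩ := MulAction.exists_smul_eq G P Q
  have hnat : ∀ a : G, σ • (a • P) = σ a • (σ • P) := fun a => by
    apply Sylow.ext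
    simp only [Sylow.coe_subgroup_smul, Sylow.smul_def]
    show (Subgroup.map (MulAut.conj a).toMonoidHom (P : Subgroup G)).map σ.toMonoidHom =
      ((P : Subgroup G).map σ.toMonoidHom).map (MulAut.conj (σ a)).toMonoidHom
    rw [Subgroup.map_map, Subgroup.map_map]
    congr 1
    ext x
    simp
  have hσg : σ g • P = Q := by
    conv_lhs => rw [← smul_eq_of_mapsTo hP]
    rw [← hnat, hg, smul_eq_of_mapsTo hQ]
  have hNσ : ∀ x ∈ normalizer ((P : Subgroup G) : Set G), σ x ∈ normalizer ((P : Subgroup G) : Set G) := by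
    intro x hx
    have hx' : x • P = P := Sylow.smul_eq_iff_mem_normalizer.2 hx
    refine Sylow.smul_eq_iff_mem_normalizer.1 ?_
    conv_lhs => rw [← smul_eq_of_mapsTo hP]
    rw [← hnat, hx', smul_eq_of_mapsTo hP]
  obtain ⟨c, hc, hgc⟩ := exists_fixed_mem hσ h3 (normalizer ((P : Subgroup G) : Set G)) hNσ (g := g) (by
    refine Sylow.smul_eq_iff_mem_normalizer.1 ?_
    rw [mul_smul, hσg, inv_smul_eq_iff, hg])
  refine ⟨c, hc, ?_⟩
  have hgc' : (g⁻¹ * c) • P = P := Sylow.smul_eq_iff_mem_normalizer.2 hgc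
  rw [mul_smul, inv_smul_eq_iff, hg] at hgc'
  exact hgc'

/-- The fixed points of the induced automorphism of a quotient are the images of the fixed points. -/
theorem fixedSub_quotAut {σ : MulAut G} (hσ : σ ^ 3 = 1) (h3 : ¬ 3 ∣ Nat.card G) (N : Subgroup G)
    [N.Normal] (hN : N.map σ.toMonoidHom = N) :
    fixedSub (CfsgLib.InvertedBound.quotAut N σ hN) = (fixedSub σ).map (QuotientGroup.mk' N) := by
  ext q
  constructor
  · intro hq
    obtain ⟨g, rfl⟩ := QuotientGroup.mk_surjective q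
    have hq' : ((σ g : G) : G ⧸ N) = (g : G ⧸ N) := hq
    obtain ⟨c, hc, hgc⟩ := exists_fixed_mem hσ h3 N (fun x hx => mem_of_map_eq hN hx)
      (QuotientGroup.eq.1 hq'.symm)
    exact ⟨c, hc, (QuotientGroup.eq.2 hgc).symm⟩
  · rintro ⟨c, hc, rfl⟩
    show ((σ c : G) : G ⧸ N) = (c : G ⧸ N)
    rw [show σ c = c from hc]

theorem quotAut_pow_three {σ : MulAut G} (hσ : σ ^ 3 = 1) (N : Subgroup G) [N.Normal]
    (hN : N.map σ.toMonoidHom = N) : CfsgLib.InvertedBound.quotAut N σ hN ^ 3 = 1 := by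
  refine MulEquiv.ext fun q => ?_
  obtain ⟨g, rfl⟩ := QuotientGroup.mk_surjective q
  simp [pow_succ, CfsgLib.InvertedBound.quotAut_mk, pow_three_apply hσ]

theorem not_dvd_card_quotient (N : Subgroup G) [N.Normal] (h3 : ¬ 3 ∣ Nat.card G) :
    ¬ 3 ∣ Nat.card (G ⧸ N) := fun h => h3 (h.trans (Subgroup.card_quotient_dvd_card N))

theorem not_dvd_card_subgroup (N : Subgroup G) (h3 : ¬ 3 ∣ Nat.card G) :
    ¬ 3 ∣ Nat.card N := fun h => h3 (h.trans (Subgroup.card_subgroup_dvd_card N))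

/-- A `p`-element inside a subgroup of order prime to `p` is trivial. -/
theorem inf_eq_bot_of_odd {P C : Subgroup G} (hP : IsPGroup 2 P) (hC : Odd (Nat.card C)) :
    P ⊓ C = ⊥ := by
  obtain ⟨k, hk⟩ := hP.exists_card_eq
  exact Subgroup.inf_eq_bot_of_coprime (by rw [hk]; exact Nat.Coprime.pow_left k (Nat.coprime_two_left.2 hC))

end CfsgLib.FpfSymThree
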