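import Cfsg.Agent.Lib.Involutions.WeaklyClosedCentral
import Cfsg.Agent.Lib.ProductFusion.Main
import Cfsg.Agent.Lib.Signalizer74.Main
import Cfsg.Agent.Lib.PF.OddOrder
import Cfsg.Agent.Lib.TwoGroups.FusionTools

/-!
# Central involutions with fusion controlled by an abelian group of odd order

A non-abelian simple group cannot have a Sylow 2-subgroup `S` such that the fusion of the
involutions of `Z(S)` is controlled by an abelian group of odd order of `N(S)` which is not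
transitive on them. (Product fusion, `Z*`, the solvable signalizer functor theorem and a two-class
argument; this replaces Goldschmidt's strongly closed abelian theorem in this situation.)
-/

set_option autoImplicit false
set_option linter.unusedSectionVars false
set_option linter.style.haveILetI false

namespace CfsgLib.CentreFusion

open Subgroup
open scoped commutatorElement

universe u

variable {G : Type u} [Group G] [Finite G]

local instance : Fact (Nat.Prime 2) := ⟨Nat.prime_two⟩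

/-- The involutions of the centre of `S`, with `1`. -/
def centralInvols (S : Subgroup G) : Subgroup G where
  carrier := {x | x ∈ S ∧ x * x = 1 ∧ ∀ s ∈ S, s * x = x * s}
  one_mem' := ⟨S.one_mem, one_mul 1, fun s _ => by rw [mul_one, one_mul]⟩
  mul_mem' {x y} hx hy := by
    refine ⟨S.mul_mem hx.1 hy.1, ?_, fun s hs => ?_⟩
    · rw [mul_assoc x, ← mul_assoc y x y, hx.2.2 y hy.1, mul_assoc x y y, hy.2.1, mul_one, hx.2.1]
    · rw [← mul_assoc, hx.2.2 s hs, mul_assoc, hy.2.2 s hs, mul_assoc]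
  inv_mem' {x} hx := ⟨S.inv_mem hx.1, by rw [← mul_inv_rev, hx.2.1, inv_one],
    fun s hs => (Commute.inv_right (show Commute s x from hx.2.2 s hs)).eq⟩

variable {S : Subgroup G}

theorem centralInvols_le : centralInvols S ≤ S := fun _ hx => hx.1

theorem commute_of_mem {v w : G} (hv : v ∈ centralInvols S) (hw : w ∈ centralInvols S) : v * w = w * v :=
  hw.2.2 v hv.1

theorem isPGroup_centralInvols : IsPGroup 2 (centralInvols S) := fun x =>
  ⟨1, Subtype.ext (by simpa [pow_two] using x.2.2.1)⟩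

theorem le_centralizer_of_mem {a : G} (ha : a ∈ centralInvols S) : S ≤ centralizer ({a} : Set G) :=
  fun s hs => mem_centralizer_singleton_iff.2 (ha.2.2 s hs)

theorem inv_eq_self {a : G} (ha : a ∈ centralInvols S) : a⁻¹ = a := inv_eq_of_mul_eq_one_right ha.2.1

theorem conj_mem_centralInvols {c : G} (hc : c ∈ normalizer (S : Set G)) {v : G}
    (hv : v ∈ centralInvols S) : c * v * c⁻¹ ∈ centralInvols S := by
  refine ⟨(mem_normalizer_iff.1 hc v).1 hv.1, ?_, fun s hs => ?_⟩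
  · rw [show c * v * c⁻¹ * (c * v * c⁻¹) = c * (v * v) * c⁻¹ by group, hv.2.1, mul_one, mul_inv_cancel]
  · have hs' : c⁻¹ * s * c ∈ S := by
      have h1 := (mem_normalizer_iff.1 ((normalizer (S : Set G)).inv_mem hc) s).1 hs
      rwa [inv_inv] at h1
    calc s * (c * v * c⁻¹) = c * ((c⁻¹ * s * c) * v) * c⁻¹ := by group
      _ = c * (v * (c⁻¹ * s * c)) * c⁻¹ := by rw [hv.2.2 _ hs']
      _ = c * v * c⁻¹ * s := by group

/-- A 2-group normalising a subgroup of odd order and fixing a coset fixes an element of it. -/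
theorem exists_mem_centralizer (P N : Subgroup G) (hP : IsPGroup 2 P) (hodd : Odd (Nat.card N))
    (hPN : P ≤ normalizer (N : Set G)) (x : G) (hx : ∀ v ∈ P, v * x * v⁻¹ * x⁻¹ ∈ N) :
    ∃ y ∈ N, y * x ∈ centralizer (P : Set G) := by
  let X := {y : G // y * x⁻¹ ∈ N}
  have hmaps : ∀ v ∈ P, ∀ y : G, y * x⁻¹ ∈ N → v * y * v⁻¹ * x⁻¹ ∈ N := fun v hv y hy => by
    have h1 := N.mul_mem ((mem_normalizer_iff.1 (hPN hv) _).1 hy) (hx v hv)
    rwa [show v * (y * x⁻¹) * v⁻¹ * (v * x * v⁻¹ * x⁻¹) = v * y * v⁻¹ * x⁻¹ by group] at h1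
  letI : MulAction P X :=
    { smul := fun v y => ⟨(v : G) * y.1 * (v : G)⁻¹, hmaps v v.2 y y.2⟩
      one_smul := fun y => Subtype.ext (by show (1 : G) * y.1 * (1 : G)⁻¹ = y.1; simp)
      mul_smul := fun v w y => Subtype.ext (by
        show ((v : G) * w) * y.1 * ((v : G) * w)⁻¹ = v * ((w : G) * y.1 * (w : G)⁻¹) * (v : G)⁻¹
        group) }
  have hcard : Nat.card X = Nat.card N := Nat.card_congr
    { toFun := fun y => ⟨y.1 * x⁻¹, y.2⟩
      invFun := fun n => ⟨n * x, by simp⟩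
      left_inv := fun y => by simp
      right_inv := fun n => by simp }
  obtain ⟨y, hy⟩ := hP.nonempty_fixed_point_of_prime_not_dvd_card X (by
    rw [hcard]; exact fun h => Nat.not_even_iff_odd.2 hodd (even_iff_two_dvd.2 h))
  refine ⟨y.1 * x⁻¹, y.2, ?_⟩
  rw [inv_mul_cancel_right, mem_centralizer_iff]
  intro v hv
  have h1 : v * y.1 * v⁻¹ = y.1 := congrArg Subtype.val (hy ⟨v, hv⟩)
  calc v * y.1 = (v * y.1 * v⁻¹) * v := by group
    _ = y.1 * v := by rw [h1]

/-- For two involutions which are not conjugate: the central involution of the dihedral group they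
generate. -/
theorem exists_middle {u v : G} (hu : u * u = 1) (hv : v * v = 1)
    (hne : ∀ g : G, g * u * g⁻¹ ≠ v) :
    ∃ w : G, w ≠ 1 ∧ w * w = 1 ∧ u * w = w * u ∧ v * w = w * v ∧
      ∃ g : G, g * (u * w) * g⁻¹ = u ∨ g * (u * w) * g⁻¹ = v := by
  set r := u * v with hrdef
  have hvr : u * r = v := by rw [hrdef, ← mul_assoc, hu, one_mul]
  have hui : u⁻¹ = u := inv_eq_of_mul_eq_one_right hu
  have hvi : v⁻¹ = v := inv_eq_of_mul_eq_one_right hv
  have hur : u * r * u⁻¹ = r⁻¹ := by rw [hvr, hrdef, mul_inv_rev, hvi]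
  have hconj : ∀ k : ℤ, u * r ^ k * u⁻¹ = r ^ (-k) := fun k => by
    rw [← conj_zpow, hur, inv_zpow, zpow_neg]
  have hshift : ∀ k : ℤ, u * r ^ k = r ^ (-k) * u := fun k => by
    rw [← hconj k, inv_mul_cancel_right]
  obtain ⟨n, hn⟩ | ⟨n, hn⟩ := Nat.even_or_odd (orderOf r)
  · have hn0 : n ≠ 0 := fun h0 => (orderOf_pos r).ne' (by omega)
    set w := r ^ (n : ℤ) with hwdef
    have hww : w * w = 1 := by
      rw [hwdef, ← zpow_add, ← Nat.cast_add, zpow_natCast, ← hn, pow_orderOf_eq_one]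
    have hwinv : r ^ (-(n : ℤ)) = w := by rw [zpow_neg, ← hwdef, inv_eq_of_mul_eq_one_right hww]
    have huw : u * w = w * u := by
      conv_rhs => rw [← hwinv]
      exact hshift n
    have hrw : Commute r w := (Commute.refl r).zpow_right _
    refine ⟨w, ?_, hww, huw, ?_, ?_⟩
    · rw [hwdef, zpow_natCast]
      exact pow_ne_one_of_lt_orderOf hn0 (by omega)
    · rw [← hvr, mul_assoc, hrw.eq, ← mul_assoc, huw, mul_assoc]
    · obtain ⟨m, hm⟩ | ⟨m, hm⟩ := Nat.even_or_odd n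
      · refine ⟨r ^ (m : ℤ), Or.inl ?_⟩
        rw [hwdef, hm, Nat.cast_add, zpow_add, ← mul_assoc u, hshift]
        group
      · refine ⟨r ^ (m : ℤ), Or.inr ?_⟩
        rw [hwdef, hm, show ((2 * m + 1 : ℕ) : ℤ) = (m : ℤ) + (1 + m) by push_cast; ring, zpow_add,
          zpow_add, zpow_one, ← mul_assoc u, hshift, ← hvr]
        group
  · exfalso
    refine hne (r ^ (n : ℤ)) ?_
    have h1 : r ^ ((n : ℤ) + n) = r⁻¹ := by
      refine eq_inv_of_mul_eq_one_left ?_
      rw [← zpow_add_one, show (n : ℤ) + n + 1 = ((2 * n + 1 : ℕ) : ℤ) by push_cast; ring, zpow_natCast,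
        ← hn, pow_orderOf_eq_one]
    calc r ^ (n : ℤ) * u * (r ^ (n : ℤ))⁻¹ = u * (u⁻¹ * r ^ (n : ℤ) * u) * r ^ (-(n : ℤ)) := by
          rw [zpow_neg]; group
      _ = u * r ^ (-(n : ℤ)) * r ^ (-(n : ℤ)) := by rw [show u⁻¹ * r ^ (n : ℤ) * u = r ^ (-(n : ℤ)) by
            conv_lhs => rw [hui]
            conv_lhs => rw [show u * r ^ (n : ℤ) * u = u * r ^ (n : ℤ) * u⁻¹ by rw [hui]]
            exact hconj n]
      _ = u * r := by
        rw [mul_assoc, ← zpow_add, ← neg_add, zpow_neg, h1, inv_inv]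
      _ = v := hvr

variable (S : Sylow 2 G) (C₀ : Subgroup G)

/-- The hypotheses: fusion of central involutions is controlled by an abelian odd subgroup of `N(S)`. -/
structure Controlled : Prop where
  comm : ∀ x ∈ C₀, ∀ y ∈ C₀, x * y = y * x
  odd : Odd (Nat.card C₀)
  le : C₀ ≤ normalizer ((S : Subgroup G) : Set G)
  fuse : ∀ (g : G) (A : Set G), A ⊆ centralInvols (S : Subgroup G) →
    (∀ a ∈ A, g * a * g⁻¹ ∈ (S : Subgroup G)) → ∃ c ∈ C₀, ∀ a ∈ A, g * a * g⁻¹ = c * a * c⁻¹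

variable {S C₀}

theorem Controlled.stronglyClosed (h : Controlled S C₀) {K : Subgroup G}
    (hK : K ≤ centralInvols (S : Subgroup G)) (hinv : ∀ c ∈ C₀, ∀ x ∈ K, c * x * c⁻¹ ∈ K) :
    Cfsg.IsStronglyClosed K (S : Subgroup G) := by
  refine ⟨hK.trans centralInvols_le, fun x hx g hg => ?_⟩
  obtain ⟨c, hc, he⟩ := h.fuse g {x} (Set.singleton_subset_iff.2 (hK hx))
    (fun a ha => by rw [Set.mem_singleton_iff.1 ha]; exact hg)
  rw [he x rfl]
  exact hinv c hc x hx

section Simple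

variable [IsSimpleGroup G]

theorem eq_bot_or_top {N : Subgroup G} (hN : N.Normal) : N = ⊥ ∨ N = ⊤ := hN.eq_bot_or_eq_top

theorem Controlled.pPrimeCore_eq_bot (hna : ¬ ∀ x y : G, x * y = y * x) :
    Cfsg.pPrimeCore 2 G = ⊥ := by
  refine (eq_bot_or_top inferInstance).resolve_right fun htop => hna ?_
  have hoddG : Odd (Nat.card G) := by
    have h1 : (Nat.card (Cfsg.pPrimeCore 2 G)).Coprime 2 := CfsgLib.PCore.pPrimeCore_coprime
    rw [htop, Subgroup.card_top] at h1
    exact Nat.coprime_two_right.1 h1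
  haveI := CfsgLib.PF.oddSolvable G hoddG
  intro x y
  exact IsSimpleGroup.comm_iff_isSolvable.2 inferInstance x y

theorem Controlled.fix_of_fix (h : Controlled S C₀) (hna : ¬ ∀ x y : G, x * y = y * x) {c w : G}
    (hc : c ∈ C₀) (hw : w ∈ centralInvols (S : Subgroup G)) (hw1 : w ≠ 1) (hcw : c * w * c⁻¹ = w)
    {v : G} (hv : v ∈ centralInvols (S : Subgroup G)) : c * v * c⁻¹ = v := by
  by_contra hne
  set V := centralInvols (S : Subgroup G)
  have hcV : ∀ x ∈ V, c * x * c⁻¹ ∈ V := fun x hx => conj_mem_centralInvols (h.le hc) hx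
  let f : V →* G :=
    { toFun := fun x => c * (x : G) * c⁻¹ * (x : G)⁻¹
      map_one' := by simp
      map_mul' := fun x y => by
        show c * ((x : G) * y) * c⁻¹ * ((x : G) * y)⁻¹ =
          c * (x : G) * c⁻¹ * (x : G)⁻¹ * (c * (y : G) * c⁻¹ * (y : G)⁻¹)
        have e := commute_of_mem (V.mul_mem (hcV y y.2) (V.inv_mem y.2)) (V.inv_mem x.2)
        calc c * ((x : G) * y) * c⁻¹ * ((x : G) * y)⁻¹
            = c * (x : G) * c⁻¹ * ((c * (y : G) * c⁻¹ * (y : G)⁻¹) * (x : G)⁻¹) := by group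
          _ = c * (x : G) * c⁻¹ * ((x : G)⁻¹ * (c * (y : G) * c⁻¹ * (y : G)⁻¹)) := by rw [e]
          _ = _ := by group }
  set K₁ := V ⊓ centralizer ({c} : Set G)
  set K₂ := f.range
  have hK₂V : K₂ ≤ V := by
    rintro _ ⟨x, rfl⟩
    exact V.mul_mem (hcV x x.2) (V.inv_mem x.2)
  have hinv₁ : ∀ d ∈ C₀, ∀ x ∈ K₁, d * x * d⁻¹ ∈ K₁ := by
    intro d hd x hx
    refine ⟨conj_mem_centralInvols (h.le hd) hx.1, mem_centralizer_singleton_iff.2 ?_⟩
    have hdc : Commute d c := h.comm d hd c hc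
    have hxc : Commute x c := mem_centralizer_singleton_iff.1 hx.2
    exact ((hdc.mul_left hxc).mul_left hdc.inv_left).eq
  have hinv₂ : ∀ d ∈ C₀, ∀ x ∈ K₂, d * x * d⁻¹ ∈ K₂ := by
    rintro d hd _ ⟨x, rfl⟩
    refine ⟨⟨d * x * d⁻¹, conj_mem_centralInvols (h.le hd) x.2⟩, ?_⟩
    show c * (d * (x : G) * d⁻¹) * c⁻¹ * (d * (x : G) * d⁻¹)⁻¹ =
      d * (c * (x : G) * c⁻¹ * (x : G)⁻¹) * d⁻¹
    have hdc : c * d = d * c := h.comm c hc d hd
    calc c * (d * (x : G) * d⁻¹) * c⁻¹ * (d * (x : G) * d⁻¹)⁻¹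
        = (c * d) * (x : G) * (c * d)⁻¹ * d * (x : G)⁻¹ * d⁻¹ := by group
      _ = (d * c) * (x : G) * (d * c)⁻¹ * d * (x : G)⁻¹ * d⁻¹ := by rw [hdc]
      _ = _ := by group
  have hdisj : K₁ ⊓ K₂ = ⊥ := by
    rw [eq_bot_iff]
    rintro x ⟨⟨hxV, hxc⟩, y, hy⟩
    have hy' : c * (y : G) * c⁻¹ = x * (y : G) := by rw [← hy]; show _ = _ * _; simp [f]
    have hxc' : c * x * c⁻¹ = x := by
      rw [← (mem_centralizer_singleton_iff.1 hxc), mul_inv_cancel_right]
    have hiter : ∀ i : ℕ, c ^ i * (y : G) * (c ^ i)⁻¹ = x ^ i * (y : G) := by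
      intro i
      induction i with
      | zero => simp
      | succ i ih =>
        calc c ^ (i + 1) * (y : G) * (c ^ (i + 1))⁻¹ = c * (c ^ i * (y : G) * (c ^ i)⁻¹) * c⁻¹ := by
              rw [pow_succ']; group
          _ = (c * x * c⁻¹) ^ i * (c * (y : G) * c⁻¹) := by rw [ih, conj_pow]; group
          _ = x ^ (i + 1) * (y : G) := by rw [hxc', hy', ← mul_assoc, pow_succ]
    have h1 := hiter (orderOf c)
    rw [pow_orderOf_eq_one, one_mul, inv_one, mul_one, right_eq_mul] at h1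
    have ho : Odd (orderOf c) := Odd.of_dvd_nat h.odd
      (Subgroup.orderOf_coe (⟨c, hc⟩ : C₀) ▸ orderOf_dvd_natCard _)
    obtain ⟨k, hk⟩ := ho
    rw [hk, pow_succ, pow_mul, pow_two, hxV.2.1, one_pow, one_mul] at h1
    exact Subgroup.mem_bot.2 h1
  have hpair := CfsgLib.ProductFusion.commutator_le_pPrimeCore
    ⟨S, K₁, K₂, fun a ha b hb => commute_of_mem ha.1 (hK₂V hb), hdisj,
      h.stronglyClosed inf_le_left hinv₁, h.stronglyClosed hK₂V hinv₂⟩
  have htop : ∀ K : Subgroup G, K ≠ ⊥ → normalClosure (K : Set G) = ⊤ := fun K hK =>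
    (eq_bot_or_top normalClosure_normal).resolve_left fun h0 =>
      hK (eq_bot_iff.2 fun x hx => h0 ▸ subset_normalClosure hx)
  have h1 : K₁ ≠ ⊥ := fun h0 => hw1 (Subgroup.mem_bot.1 (h0 ▸ ⟨hw, mem_centralizer_singleton_iff.2 (by
    calc w * c = (c * w * c⁻¹) * c := by rw [hcw]
      _ = c * w := by group)⟩))
  have h2 : K₂ ≠ ⊥ := fun h0 => hne (mul_inv_eq_one.1 (Subgroup.mem_bot.1 (h0 ▸ ⟨⟨v, hv⟩, rfl⟩)))
  rw [show (normalClosure ((K₁ : Subgroup G) : Set G)) = ⊤ from htop K₁ h1,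
    show (normalClosure ((K₂ : Subgroup G) : Set G)) = ⊤ from htop K₂ h2,
    Controlled.pPrimeCore_eq_bot hna, le_bot_iff] at hpair
  refine hna fun x y => ?_
  have h3 : ⁅x, y⁆ ∈ (⊥ : Subgroup G) := hpair ▸ commutator_mem_commutator (mem_top x) (mem_top y)
  exact commutatorElement_eq_one_iff_mul_comm.1 (Subgroup.mem_bot.1 h3)

/-- `[C(a), V] ≤ O(C(a))` for the involutions `a` of `V`. -/
theorem Controlled.commutator_mem_core (h : Controlled S C₀) (hna : ¬ ∀ x y : G, x * y = y * x) {a : G}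
    (ha : a ∈ centralInvols (S : Subgroup G)) (ha1 : a ≠ 1) {x v : G}
    (hx : x ∈ centralizer ({a} : Set G)) (hv : v ∈ centralInvols (S : Subgroup G)) :
    x * v * x⁻¹ * v⁻¹ ∈ Cfsg.centralizerPPrimeCore 2 a := by
  set K := centralizer ({a} : Set G)
  have hSK : (S : Subgroup G) ≤ K := le_centralizer_of_mem ha
  let S' : Sylow 2 K := S.subtype hSK
  refine ⟨⟨x * v * x⁻¹ * v⁻¹, K.mul_mem (K.mul_mem (K.mul_mem hx (hSK hv.1)) (K.inv_mem hx))
    (K.inv_mem (hSK hv.1))⟩, ?_, rfl⟩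
  refine CfsgLib.Involutions.WCC.commutator_mem_core 1 K S' ⟨v, hSK hv.1⟩ hv.1
    (Subtype.ext (by simpa [pow_two] using hv.2.1)) ?_ ⟨x, hx⟩
  intro i g hg
  apply Subtype.ext
  have hvi : v ^ i ∈ centralInvols (S : Subgroup G) := Subgroup.pow_mem _ hv i
  have hga : (g : G) * a * (g : G)⁻¹ = a := by
    rw [mem_centralizer_singleton_iff.1 g.2, mul_inv_cancel_right]
  obtain ⟨c, hc, he⟩ := h.fuse g {v ^ i, a}
    (Set.insert_subset hvi (Set.singleton_subset_iff.2 ha))
    (fun b hb => by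
      rcases hb with rfl | rfl
      · exact hg
      · rw [hga]; exact ha.1)
  show (g : G) * v ^ i * (g : G)⁻¹ = v ^ i
  rw [he _ (Set.mem_insert _ _)]
  refine h.fix_of_fix hna hc ha ha1 ?_ hvi
  rw [← he a (Set.mem_insert_of_mem _ rfl), hga]

end Simple

end CfsgLib.CentreFusion
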