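import Cfsg.Agent.Lib.FpfSymThree.CentreFusion

/-!
# The signalizer functor and the two-class argument
-/

set_option autoImplicit false
set_option linter.unusedSectionVars false
set_option linter.style.haveILetI false

namespace CfsgLib.CentreFusion

open Subgroup

universe u

variable {G : Type u} [Group G] [Finite G]

local instance : Fact (Nat.Prime 2) := ⟨Nat.prime_two⟩

theorem core_le (a : G) : Cfsg.centralizerPPrimeCore 2 a ≤ centralizer ({a} : Set G) :=
  map_subtype_le _

theorem odd_core (a : G) : Odd (Nat.card (Cfsg.centralizerPPrimeCore 2 a)) := by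
  rw [Cfsg.centralizerPPrimeCore, Subgroup.card_map_of_injective (Subgroup.subtype_injective _)]
  exact Nat.coprime_two_right.1 CfsgLib.PCore.pPrimeCore_coprime

theorem conj_mem_core {a n x : G} (hn : n ∈ centralizer ({a} : Set G))
    (hx : x ∈ Cfsg.centralizerPPrimeCore 2 a) : n * x * n⁻¹ ∈ Cfsg.centralizerPPrimeCore 2 a := by
  obtain ⟨y, hy, rfl⟩ := hx
  haveI : (Cfsg.pPrimeCore 2 (centralizer ({a} : Set G))).Normal := inferInstance
  exact ⟨⟨n, hn⟩ * y * ⟨n, hn⟩⁻¹, this.conj_mem y hy _, rfl⟩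

theorem map_core (α : MulAut G) (a : G) :
    (Cfsg.centralizerPPrimeCore 2 a).map α.toMonoidHom = Cfsg.centralizerPPrimeCore 2 (α a) := by
  have hK : (centralizer ({a} : Set G)).map α.toMonoidHom = centralizer ({α a} : Set G) := by
    ext y
    constructor
    · rintro ⟨x, hx, rfl⟩
      refine mem_centralizer_singleton_iff.2 ?_
      show α x * α a = α a * α x
      rw [← map_mul, ← map_mul, mem_centralizer_singleton_iff.1 hx]
    · intro hy
      refine ⟨α.symm y, mem_centralizer_singleton_iff.2 (α.injective ?_), α.apply_symm_apply y⟩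
      rw [map_mul, map_mul, α.apply_symm_apply, mem_centralizer_singleton_iff.1 hy]
  let e : centralizer ({a} : Set G) ≃* centralizer ({α a} : Set G) :=
    (α.subgroupMap _).trans (MulEquiv.subgroupCongr hK)
  rw [Cfsg.centralizerPPrimeCore, Cfsg.centralizerPPrimeCore, ← CfsgLib.PCore.map_pPrimeCore_equiv e,
    Subgroup.map_map, Subgroup.map_map]
  rfl

/-- The odd core of the centraliser of the central involutions. -/
def centCore (V : Subgroup G) : Subgroup G :=
  (Cfsg.pPrimeCore 2 (centralizer (V : Set G))).map (centralizer (V : Set G)).subtype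

section Main

variable [IsSimpleGroup G] {S : Sylow 2 G} {C₀ : Subgroup G} (h : Controlled S C₀)
  (hna : ¬ ∀ x y : G, x * y = y * x)

include h hna

theorem Controlled.exists_core_mul {a : G} (ha : a ∈ centralInvols (S : Subgroup G)) (ha1 : a ≠ 1)
    {x : G} (hx : x ∈ centralizer ({a} : Set G)) :
    ∃ o ∈ Cfsg.centralizerPPrimeCore 2 a,
      o * x ∈ centralizer (centralInvols (S : Subgroup G) : Set G) := by
  refine exists_mem_centralizer _ _ isPGroup_centralInvols (odd_core a)
    (fun v hv => ?_) x (fun v hv => ?_)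
  · have hvK : v ∈ centralizer ({a} : Set G) := le_centralizer_of_mem ha hv.1
    exact le_normalizer_iff.2 (fun n hn y hy => conj_mem_core hn hy) hvK
  · have h1 := (Cfsg.centralizerPPrimeCore 2 a).inv_mem (h.commutator_mem_core hna ha ha1 hx hv)
    rwa [show (x * v * x⁻¹ * v⁻¹)⁻¹ = v * x * v⁻¹ * x⁻¹ by group] at h1

theorem Controlled.centralizer_le_of {a : G} (ha : a ∈ centralInvols (S : Subgroup G)) :
    centralizer (centralInvols (S : Subgroup G) : Set G) ≤ centralizer ({a} : Set G) :=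
  centralizer_le (Set.singleton_subset_iff.2 ha)

theorem Controlled.core_inf_le {a : G} (ha : a ∈ centralInvols (S : Subgroup G)) :
    Cfsg.centralizerPPrimeCore 2 a ⊓ centralizer (centralInvols (S : Subgroup G) : Set G) ≤
      centCore (centralInvols (S : Subgroup G)) := by
  set C := centralizer (centralInvols (S : Subgroup G) : Set G)
  set L := (Cfsg.centralizerPPrimeCore 2 a).subgroupOf C
  have hn : L.Normal := ⟨fun y hy n => conj_mem_core (h.centralizer_le_of hna ha n.2) hy⟩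
  have hodd : (Nat.card L).Coprime 2 := by
    refine Nat.coprime_two_right.2 (Odd.of_dvd_nat (odd_core a) ?_)
    rw [show L = (Cfsg.centralizerPPrimeCore 2 a ⊓ C).subgroupOf C from
      (Subgroup.inf_subgroupOf_right _ _).symm, Nat.card_congr (Subgroup.subgroupOfEquivOfLe inf_le_right).toEquiv]
    exact Subgroup.card_dvd_of_le inf_le_left
  intro x hx
  exact ⟨⟨x, hx.2⟩, CfsgLib.PCore.le_pPrimeCore hn hodd hx.1, rfl⟩

theorem Controlled.centCore_le {b : G} (hb : b ∈ centralInvols (S : Subgroup G)) (hb1 : b ≠ 1) :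
    centCore (centralInvols (S : Subgroup G)) ≤ Cfsg.centralizerPPrimeCore 2 b := by
  set C := centralizer (centralInvols (S : Subgroup G) : Set G)
  set K := centralizer ({b} : Set G)
  set R := centCore (centralInvols (S : Subgroup G))
  have hRC : R ≤ C := map_subtype_le _
  have hRodd : Odd (Nat.card R) := by
    rw [show R = centCore _ from rfl, centCore,
      Subgroup.card_map_of_injective (Subgroup.subtype_injective _)]
    exact Nat.coprime_two_right.1 CfsgLib.PCore.pPrimeCore_coprime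
  have hCK : C ≤ K := h.centralizer_le_of hna hb
  set O := Cfsg.pPrimeCore 2 K with hOdef
  set L := O ⊔ R.subgroupOf K with hL
  have hOb : ∀ y : K, (y : G) ∈ Cfsg.centralizerPPrimeCore 2 b → y ∈ O := fun y hy => by
    obtain ⟨z, hz, e⟩ := hy
    rwa [Subtype.ext e] at hz
  haveI hOn : O.Normal := inferInstance
  have hLn : L.Normal := by
    refine ⟨fun y hy g => ?_⟩
    obtain ⟨o, ho, hn⟩ := h.exists_core_mul hna hb hb1 g.2
    have hoK : o ∈ K := core_le b ho
    set o' : K := ⟨o, hoK⟩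
    have ho' : o' ∈ L := mem_sup_left (hOb o' ho)
    set n' : K := o' * g
    have key : L.map (MulAut.conj n').toMonoidHom ≤ L := by
      rw [hL, Subgroup.map_sup, sup_le_iff]
      refine ⟨?_, ?_⟩
      · rintro _ ⟨z, hz, rfl⟩
        exact mem_sup_left (hOn.conj_mem z hz n')
      · rintro _ ⟨z, hz, rfl⟩
        refine mem_sup_right ?_
        obtain ⟨w, hw, e⟩ := (hz : (z : G) ∈ R)
        have hw' := (inferInstance : (Cfsg.pPrimeCore 2 C).Normal).conj_mem w hw ⟨(n' : G), hn⟩
        exact ⟨_, hw', by show (n' : G) * (w : G) * (n' : G)⁻¹ = (n' : G) * (z : G) * (n' : G)⁻¹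
                          rw [show (w : G) = (z : G) from e]⟩
    have h1 : n' * y * n'⁻¹ ∈ L := key ⟨y, hy, rfl⟩
    have h2 := L.mul_mem (L.mul_mem (L.inv_mem ho') h1) ho'
    rwa [show o'⁻¹ * (n' * y * n'⁻¹) * o' = g * y * g⁻¹ by simp only [n']; group] at h2
  have hLodd : (Nat.card L).Coprime 2 := by
    refine Nat.coprime_two_right.2 (Odd.of_dvd_nat ((Nat.coprime_two_right.1
      CfsgLib.PCore.pPrimeCore_coprime).mul ?_) (CfsgLib.PCore.card_sup_dvd_mul O (R.subgroupOf K)))
    rwa [Nat.card_congr (Subgroup.subgroupOfEquivOfLe (hRC.trans hCK)).toEquiv]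
  intro x hx
  exact ⟨⟨x, hCK (hRC hx)⟩, CfsgLib.PCore.le_pPrimeCore hLn hLodd (mem_sup_right hx), rfl⟩

theorem Controlled.balance {a b : G} (ha : a ∈ centralInvols (S : Subgroup G)) (ha1 : a ≠ 1)
    (hb : b ∈ centralInvols (S : Subgroup G)) (hb1 : b ≠ 1) :
    Cfsg.centralizerPPrimeCore 2 a ⊓ centralizer ({b} : Set G) ≤ Cfsg.centralizerPPrimeCore 2 b := by
  intro x hx
  set V := centralInvols (S : Subgroup G)
  set N := Cfsg.centralizerPPrimeCore 2 a ⊓ Cfsg.centralizerPPrimeCore 2 b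
  have hNodd : Odd (Nat.card N) := Odd.of_dvd_nat (odd_core a) (Subgroup.card_dvd_of_le inf_le_left)
  have hVa : ∀ v ∈ V, v ∈ centralizer ({a} : Set G) := fun v hv => le_centralizer_of_mem ha hv.1
  have hVb : ∀ v ∈ V, v ∈ centralizer ({b} : Set G) := fun v hv => le_centralizer_of_mem hb hv.1
  obtain ⟨y, hy, hyx⟩ := exists_mem_centralizer V N isPGroup_centralInvols hNodd
    (le_normalizer_iff.2 fun v hv z hz => ⟨conj_mem_core (hVa v hv) hz.1, conj_mem_core (hVb v hv) hz.2⟩)
    x (fun v hv => ⟨(Cfsg.centralizerPPrimeCore 2 a).mul_mem (conj_mem_core (hVa v hv) hx.1)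
      ((Cfsg.centralizerPPrimeCore 2 a).inv_mem hx.1), by
      have h1 := (Cfsg.centralizerPPrimeCore 2 b).inv_mem (h.commutator_mem_core hna hb hb1 hx.2 hv)
      rwa [show (x * v * x⁻¹ * v⁻¹)⁻¹ = v * x * v⁻¹ * x⁻¹ by group] at h1⟩)
  have h2 : y * x ∈ Cfsg.centralizerPPrimeCore 2 b :=
    h.centCore_le hna hb hb1 (h.core_inf_le hna ha
      ⟨(Cfsg.centralizerPPrimeCore 2 a).mul_mem hy.1 hx.1, hyx⟩)
  have h3 := (Cfsg.centralizerPPrimeCore 2 b).mul_mem ((Cfsg.centralizerPPrimeCore 2 b).inv_mem hy.2) h2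
  rwa [inv_mul_cancel_left] at h3

/-- A proper subgroup containing all `C(a)`, `a ∈ V#`. -/
theorem Controlled.exists_proper (h8 : 2 ^ 3 ≤ Nat.card (centralInvols (S : Subgroup G))) :
    ∃ M : Subgroup G, M ≠ ⊤ ∧
      ∀ a ∈ centralInvols (S : Subgroup G), a ≠ 1 → centralizer ({a} : Set G) ≤ M := by
  set V := centralInvols (S : Subgroup G)
  set θ : G → Subgroup G := fun a => Cfsg.centralizerPPrimeCore 2 a
  obtain ⟨hW, -⟩ := CfsgLib.Signalizer74.completion (p := 2) (A := V) (θ := θ)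
    ⟨⟨⟨fun x y => Subtype.ext (commute_of_mem x.2 y.2)⟩⟩, fun x hx => by
      rw [pow_two]; exact hx.2.1⟩ h8
    ⟨⟨fun a _ _ => core_le a, fun a _ _ => fun hd => Nat.not_even_iff_odd.2 (odd_core a) (even_iff_two_dvd.2 hd),
      fun a ha _ b hb x hx => conj_mem_core (le_centralizer_of_mem ha hb.1) hx,
      fun a ha ha1 b hb hb1 => h.balance hna ha ha1 hb hb1⟩,
      fun a _ _ => CfsgLib.PF.oddSolvable _ (odd_core a)⟩
  set W := ⨆ a : {a : G // a ∈ V ∧ a ≠ 1}, θ (a : G)
  have hWodd : ¬ 2 ∣ Nat.card W := hW.2.1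
  have hGeven : 2 ∣ Nat.card G := by
    haveI : Nontrivial V := Finite.one_lt_card_iff_nontrivial.1 (lt_of_lt_of_le (by norm_num) h8)
    obtain ⟨k, hk⟩ := isPGroup_centralInvols.exists_card_eq (G := V)
    rcases Nat.eq_zero_or_pos k with rfl | hpos
    · simp only [pow_zero] at hk; rw [hk] at h8; norm_num at h8
    · exact (dvd_pow_self 2 hpos.ne').trans (hk ▸ Subgroup.card_subgroup_dvd_card V)
  have hV1 : V ≠ ⊥ := fun h0 => by rw [h0, Subgroup.card_bot] at h8; norm_num at h8
  have hnV : centralizer (V : Set G) ≤ normalizer (W : Set G) := by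
    rw [le_normalizer_iff]
    intro n hn x hx
    have hle : W ≤ W.comap (MulAut.conj n).toMonoidHom := by
      refine iSup_le fun a y hy => ?_
      exact le_iSup (fun a : {a : G // a ∈ V ∧ a ≠ 1} => θ (a : G)) a
        (conj_mem_core (h.centralizer_le_of hna a.2.1 hn) hy)
    exact hle hx
  by_cases hW1 : W = ⊥
  · refine ⟨centralizer (V : Set G), fun htop => ?_, fun a ha ha1 x hx => ?_⟩
    · have hVn : V.Normal := ⟨fun v hv g => by
        have := (mem_centralizer_iff.1 (htop ▸ mem_top g : g ∈ centralizer (V : Set G))) v hv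
        rw [← this, mul_inv_cancel_right]; exact hv⟩
      have hVt : V = ⊤ := (hVn.eq_bot_or_eq_top).resolve_left hV1
      exact hna fun x y => commute_of_mem (hVt ▸ mem_top x : x ∈ V) (hVt ▸ mem_top y : y ∈ V)
    · obtain ⟨o, ho, hox⟩ := h.exists_core_mul hna ha ha1 hx
      have ho1 : o = 1 := Subgroup.mem_bot.1 (hW1 ▸ le_iSup (fun a : {a : G // a ∈ V ∧ a ≠ 1} => θ (a : G))
        ⟨a, ha, ha1⟩ ho)
      rwa [ho1, one_mul] at hox
  · refine ⟨normalizer (W : Set G), fun htop => ?_, fun a ha ha1 x hx => ?_⟩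
    · have hWn : W.Normal := normalizer_eq_top_iff.1 htop
      have hWt : W = ⊤ := (hWn.eq_bot_or_eq_top).resolve_left hW1
      rw [hWt, Subgroup.card_top] at hWodd
      exact hWodd hGeven
    · obtain ⟨o, ho, hox⟩ := h.exists_core_mul hna ha ha1 hx
      have ho' : o ∈ normalizer (W : Set G) :=
        le_normalizer (le_iSup (fun a : {a : G // a ∈ V ∧ a ≠ 1} => θ (a : G)) ⟨a, ha, ha1⟩ ho)
      have := (normalizer (W : Set G)).mul_mem ((normalizer (W : Set G)).inv_mem ho') (hnV hox)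
      rwa [inv_mul_cancel_left] at this

/-- The two-class argument. -/
theorem Controlled.false_of_not_transitive (h8 : 2 ^ 3 ≤ Nat.card (centralInvols (S : Subgroup G))) {u z : G}
    (hu : u ∈ centralInvols (S : Subgroup G)) (hu1 : u ≠ 1)
    (hz : z ∈ centralInvols (S : Subgroup G)) (hz1 : z ≠ 1) (hne : ∀ g : G, g * u * g⁻¹ ≠ z) : False := by
  set V := centralInvols (S : Subgroup G)
  obtain ⟨M, hM, hMC⟩ := h.exists_proper hna h8
  have hall : ∀ g : G, g * z * g⁻¹ ∈ M := by
    intro g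
    set v := g * z * g⁻¹ with hvdef
    have hv2 : v * v = 1 := by
      rw [hvdef, show g * z * g⁻¹ * (g * z * g⁻¹) = g * (z * z) * g⁻¹ by group, hz.2.1]
      group
    have hnv : ∀ k : G, k * u * k⁻¹ ≠ v := fun k hk => hne (g⁻¹ * k) (by
      rw [show g⁻¹ * k * u * (g⁻¹ * k)⁻¹ = g⁻¹ * (k * u * k⁻¹) * g by group, hk, hvdef]
      group)
    obtain ⟨w, hw1, hw2, huw, hvw, k, hk⟩ := exists_middle hu.2.1 hv2 hnv
    set K := centralizer ({u} : Set G)
    have hSK : (S : Subgroup G) ≤ K := le_centralizer_of_mem hu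
    have hwK : w ∈ K := mem_centralizer_singleton_iff.2 huw.symm
    have huK : u ∈ K := hSK hu.1
    set P : Subgroup G := (Subgroup.zpowers u ⊔ Subgroup.zpowers w)
    have hPK : P ≤ K := sup_le (zpowers_le.2 huK) (zpowers_le.2 hwK)
    have hu' : IsPGroup 2 (zpowers u) := IsPGroup.of_card (n := 1)
      (by rw [Nat.card_zpowers, pow_one]; exact orderOf_eq_prime (by rw [pow_two]; exact hu.2.1) hu1)
    have hw' : IsPGroup 2 (zpowers w) := IsPGroup.of_card (n := 1)
      (by rw [Nat.card_zpowers, pow_one]; exact orderOf_eq_prime (by rw [pow_two]; exact hw2) hw1)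
    have hP : IsPGroup 2 P := hu'.to_sup_of_normal_right' hw' (zpowers_le.2
      (centralizer_le_normalizer _ (mem_centralizer_iff.2 fun y hy => by
        obtain ⟨i, rfl⟩ := mem_zpowers_iff.1 hy
        exact ((show Commute w u from huw.symm).zpow_left i).eq)))
    obtain ⟨m, hm, hmP⟩ := CfsgLib.TwoGroups.FT.exists_conj_into S.2 hSK
      (CfsgLib.TwoGroups.FT.sylow_relIndex_odd S hSK) hP hPK
    have hmS : ∀ y ∈ P, m * y * m⁻¹ ∈ (S : Subgroup G) := fun y hy => hmP ⟨y, hy, rfl⟩
    have hmu : m * u * m⁻¹ = u := by rw [mem_centralizer_singleton_iff.1 hm, mul_inv_cancel_right]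
    have hmuw : m * (u * w) * m⁻¹ ∈ (S : Subgroup G) :=
      hmS _ (P.mul_mem (mem_sup_left (mem_zpowers u)) (mem_sup_right (mem_zpowers w)))
    have hsc : Cfsg.IsStronglyClosed V (S : Subgroup G) :=
      h.stronglyClosed le_rfl fun c hc x hx => conj_mem_centralInvols (h.le hc) hx
    have hmem : m * (u * w) * m⁻¹ ∈ V := by
      rcases hk with hk | hk
      · have e : (m * k⁻¹) * u * (m * k⁻¹)⁻¹ = m * (u * w) * m⁻¹ := by
          calc (m * k⁻¹) * u * (m * k⁻¹)⁻¹ = (m * k⁻¹) * (k * (u * w) * k⁻¹) * (m * k⁻¹)⁻¹ := by rw [hk]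
            _ = _ := by group
        rw [← e] at hmuw ⊢
        exact hsc.2 u hu _ hmuw
      · have e : (m * k⁻¹ * g) * z * (m * k⁻¹ * g)⁻¹ = m * (u * w) * m⁻¹ := by
          rw [show m * k⁻¹ * g * z * (m * k⁻¹ * g)⁻¹ = m * k⁻¹ * (g * z * g⁻¹) * k * m⁻¹ by group,
            ← hvdef, ← hk]
          group
        rw [← e] at hmuw ⊢
        exact hsc.2 z hz _ hmuw
    have hw'' : m * w * m⁻¹ ∈ V := by
      have h1 := V.mul_mem (V.inv_mem hu) hmem
      conv at h1 => rw [show u⁻¹ * (m * (u * w) * m⁻¹) = u⁻¹ * (m * u * m⁻¹) * (m * w * m⁻¹) by group, hmu,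
        inv_mul_cancel, one_mul]
      exact h1
    have hCw := hMC _ hw'' (fun h1 => hw1 (conj_eq_one_iff.1 h1))
    have hmM : m ∈ M := hMC u hu hu1 hm
    have h2 : m * v * m⁻¹ ∈ M := hCw (mem_centralizer_singleton_iff.2 (by
      calc m * v * m⁻¹ * (m * w * m⁻¹) = m * (v * w) * m⁻¹ := by group
        _ = m * (w * v) * m⁻¹ := by rw [hvw]
        _ = m * w * m⁻¹ * (m * v * m⁻¹) := by group))
    have h3 := M.mul_mem (M.mul_mem (M.inv_mem hmM) h2) hmM
    rwa [show m⁻¹ * (m * v * m⁻¹) * m = v by group] at h3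
  have hnc : normalClosure ({z} : Set G) ≤ M := by
    rw [normalClosure, closure_le]
    intro y hy
    rw [Group.mem_conjugatesOfSet_iff] at hy
    obtain ⟨a, ha, hy⟩ := hy
    rw [Set.mem_singleton_iff] at ha
    subst ha
    obtain ⟨k, rfl⟩ := isConj_iff.1 hy
    exact hall k
  rcases normalClosure_normal.eq_bot_or_eq_top (H := normalClosure ({z} : Set G)) with h0 | h0
  · exact hz1 (Subgroup.mem_bot.1 (h0 ▸ subset_normalClosure rfl))
  · exact hM (eq_top_iff.2 (h0 ▸ hnc))

/-- Isolated central involutions. -/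
theorem Controlled.false_of_isolated {v : G} (hv : v ∈ centralInvols (S : Subgroup G)) (hv1 : v ≠ 1)
    (hiso : ∀ w ∈ centralInvols (S : Subgroup G), ∀ c ∈ C₀, c * w * c⁻¹ = w) : False := by
  have hmem : ∀ g : G, g * v * g⁻¹ * v⁻¹ ∈ Cfsg.pPrimeCore 2 G := by
    refine CfsgLib.Involutions.WCC.commutator_mem_core 1 G S v hv.1 (by rw [pow_one, pow_two]; exact hv.2.1) ?_
    intro i g hg
    have hvi : v ^ i ∈ centralInvols (S : Subgroup G) := Subgroup.pow_mem _ hv i
    obtain ⟨c, hc, he⟩ := h.fuse g {v ^ i} (Set.singleton_subset_iff.2 hvi)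
      (fun b hb => by rw [Set.mem_singleton_iff.1 hb]; exact hg)
    rw [he _ rfl, hiso _ hvi c hc]
  have hc : v ∈ center G := Subgroup.mem_center_iff.2 fun g => by
    have h1 := hmem g
    rw [Controlled.pPrimeCore_eq_bot hna, Subgroup.mem_bot, mul_inv_eq_one, mul_inv_eq_iff_eq_mul] at h1
    exact h1
  rcases (inferInstance : (center G).Normal).eq_bot_or_eq_top with h0 | h0
  · exact hv1 (Subgroup.mem_bot.1 (h0 ▸ hc))
  · exact hna fun x y => (Subgroup.mem_center_iff.1 (h0 ▸ mem_top y : y ∈ center G)) x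

/-- The main theorem. -/
theorem Controlled.false_of_dvd {q : ℕ} (hq : q.Prime)
    (hV : centralInvols (S : Subgroup G) ≠ ⊥)
    (hdvd : q ∣ Nat.card (centralInvols (S : Subgroup G)) - 1) (hC₀ : ¬ q ∣ Nat.card C₀) : False := by
  classical
  set V := centralInvols (S : Subgroup G) with hVdef
  haveI : Nontrivial V := (Subgroup.nontrivial_iff_ne_bot V).2 hV
  obtain ⟨⟨z, hz⟩, hz1'⟩ := exists_ne (1 : V)
  have hz1 : z ≠ 1 := fun h1 => hz1' (Subtype.ext h1)
  obtain ⟨k, hk⟩ := (isPGroup_centralInvols (S := (S : Subgroup G))).exists_card_eq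
  let X := {w : V // w ≠ 1}
  letI : MulAction C₀ X :=
    { smul := fun c w => ⟨⟨(c : G) * (w.1 : G) * (c : G)⁻¹, conj_mem_centralInvols (h.le c.2) w.1.2⟩,
        fun h1 => w.2 (Subtype.ext (conj_eq_one_iff.1 (congrArg Subtype.val h1)))⟩
      one_smul := fun w => Subtype.ext (Subtype.ext (by show (1 : G) * _ * (1 : G)⁻¹ = _; simp))
      mul_smul := fun c d w => Subtype.ext (Subtype.ext (by
        show ((c : G) * d) * (w.1 : G) * ((c : G) * d)⁻¹ = c * ((d : G) * (w.1 : G) * (d : G)⁻¹) * (c : G)⁻¹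
        group)) }
  have hX : Nat.card X = Nat.card V - 1 := by
    haveI := Fintype.ofFinite V
    rw [Nat.card_eq_fintype_card, Nat.card_eq_fintype_card, Fintype.card_subtype_compl,
      Fintype.card_subtype_eq]
  let z0 : X := ⟨⟨z, hz⟩, hz1'⟩
  have horb : Nat.card (MulAction.orbit C₀ z0) ∣ Nat.card C₀ := by
    rw [Nat.card_coe_set_eq, ← MulAction.index_stabilizer]
    exact Subgroup.index_dvd_card _
  by_cases htr : ∀ w : X, w ∈ MulAction.orbit C₀ z0
  · have : Nat.card (MulAction.orbit C₀ z0) = Nat.card X :=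
      Nat.card_congr (Equiv.subtypeUnivEquiv htr)
    rw [this, hX] at horb
    exact hC₀ (hdvd.trans horb)
  push Not at htr
  obtain ⟨w0, hw0⟩ := htr
  have hne : ∀ g : G, g * z * g⁻¹ ≠ ((w0.1 : V) : G) := by
    intro g hg
    obtain ⟨c, hc, he⟩ := h.fuse g {z} (Set.singleton_subset_iff.2 hz)
      (fun b hb => by rw [Set.mem_singleton_iff.1 hb, hg]; exact w0.1.2.1)
    refine hw0 ⟨⟨c, hc⟩, Subtype.ext (Subtype.ext ?_)⟩
    show c * z * c⁻¹ = _
    rw [← he z rfl, hg]
  by_cases h8 : 2 ^ 3 ≤ Nat.card V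
  · exact h.false_of_not_transitive hna h8 hz hz1 w0.1.2 (fun h1 => w0.2 (Subtype.ext h1)) hne
  have hcard4 : Nat.card V ≤ 4 := by
    rw [hk] at h8 ⊢
    have : k ≤ 2 := by
      by_contra hk3
      exact h8 (Nat.pow_le_pow_right two_pos (by omega))
    exact (Nat.pow_le_pow_right two_pos this).trans (by norm_num)
  refine h.false_of_isolated hna hz hz1 fun w hw c hc => ?_
  by_cases hw1 : w = 1
  · simp [hw1]
  let w1 : X := ⟨⟨w, hw⟩, fun h1 => hw1 (congrArg Subtype.val h1)⟩
  have horb1 : Odd (Nat.card (MulAction.orbit C₀ w1)) := by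
    refine Odd.of_dvd_nat h.odd ?_
    rw [Nat.card_coe_set_eq, ← MulAction.index_stabilizer]
    exact Subgroup.index_dvd_card _
  have hlt : Nat.card (MulAction.orbit C₀ w1) < 3 := by
    have hle : Nat.card (MulAction.orbit C₀ w1) ≤ Nat.card X :=
      Nat.card_le_card_of_injective _ Subtype.val_injective
    have hX3 : Nat.card X ≤ 3 := by rw [hX]; omega
    rcases lt_or_eq_of_le (hle.trans hX3) with h3 | h3
    · exact h3
    exfalso
    have hX' : Nat.card X = 3 := le_antisymm hX3 (h3 ▸ hle)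
    have hall : ∀ y : X, y ∈ MulAction.orbit C₀ w1 := by
      intro y
      obtain ⟨y', rfl⟩ := ((Nat.bijective_iff_injective_and_card
        (Subtype.val : MulAction.orbit C₀ w1 → X)).2 ⟨Subtype.val_injective, h3.trans hX'.symm⟩).2 y
      exact y'.2
    exact hw0 (MulAction.orbit_eq_iff.2 (hall z0) ▸ hall w0)
  have hone : Nat.card (MulAction.orbit C₀ w1) = 1 := by
    obtain ⟨j, hj⟩ := horb1
    omega
  haveI := (Nat.card_eq_one_iff_unique.1 hone).1
  have e := Subsingleton.elim (⟨(⟨c, hc⟩ : C₀) • w1, MulAction.mem_orbit _ _⟩ : MulAction.orbit C₀ w1)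
    ⟨w1, MulAction.mem_orbit_self _⟩
  exact congrArg (fun y => (((y : MulAction.orbit C₀ w1) : X).1 : G)) e

end Main

end CfsgLib.CentreFusion
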