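import Cfsg.Agent.Lib.FpfSymThree.Solvable
import Cfsg.Agent.Lib.FpfSymThree.CentreFusion
import Cfsg.Agent.Lib.SFour.StrongControl
import Cfsg.Agent.Lib.SFour.Functor

/-!
# Control of the fusion of central involutions by `C(σ) ∩ N(S)`
-/

set_option autoImplicit false
set_option linter.unusedSectionVars false
set_option linter.style.haveILetI false

namespace CfsgLib.FpfSymThree

open Subgroup CfsgLib.CentreFusion

universe u

variable {G : Type u} [Group G] [Finite G]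

local instance : Fact (Nat.Prime 2) := ⟨Nat.prime_two⟩

theorem not_involves_perm_four (h3 : ¬ 3 ∣ Nat.card G) : ¬ Cfsg.Involves (Equiv.Perm (Fin 4)) G := by
  rintro ⟨K, R, hn, ⟨e⟩⟩
  apply h3
  have h1 : Nat.card (K ⧸ R.subgroupOf K) ∣ Nat.card K := Subgroup.card_quotient_dvd_card _
  rw [Nat.card_congr e.toEquiv, Nat.card_perm, Nat.card_eq_fintype_card (α := Fin 4), Fintype.card_fin] at h1
  exact (by decide : 3 ∣ Nat.factorial 4).trans (h1.trans (Subgroup.card_subgroup_dvd_card K))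

theorem fixed_odd_comm {σ : MulAut G} (H : Subgroup G) (hH : H.map σ.toMonoidHom = H)
    (hodd : Odd (Nat.card (fixedSub σ))) (hab : ∀ x ∈ fixedSub σ, ∀ y ∈ fixedSub σ, x * y = y * x) :
    Odd (Nat.card (fixedSub (CfsgLib.HallHigman.restrictAut σ H hH))) ∧
      ∀ x ∈ fixedSub (CfsgLib.HallHigman.restrictAut σ H hH),
        ∀ y ∈ fixedSub (CfsgLib.HallHigman.restrictAut σ H hH), x * y = y * x := by
  set σH := CfsgLib.HallHigman.restrictAut σ H hH
  have hle : (fixedSub σH).map H.subtype ≤ fixedSub σ := by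
    rintro _ ⟨x, hx, rfl⟩
    exact congrArg Subtype.val (show σH x = x from hx)
  refine ⟨Odd.of_dvd_nat hodd ?_, fun x hx y hy => Subtype.ext
    (hab _ (hle ⟨x, hx, rfl⟩) _ (hle ⟨y, hy, rfl⟩))⟩
  rw [← Subgroup.card_map_of_injective (f := H.subtype) (Subgroup.subtype_injective _)]
  exact Subgroup.card_dvd_of_le hle

/-- A 2-subgroup lies in a normal subgroup of odd index. -/
theorem le_of_odd_index {P N : Subgroup G} [N.Normal] (hP : IsPGroup 2 P) (hN : ¬ 2 ∣ N.index) : P ≤ N := by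
  intro x hx
  rw [← QuotientGroup.eq_one_iff, ← orderOf_eq_one_iff]
  obtain ⟨j, hj⟩ := hP ⟨x, hx⟩
  have hj' : x ^ 2 ^ j = 1 := congrArg Subtype.val hj
  refine Nat.eq_one_of_dvd_coprimes (Nat.Coprime.pow_left j ((Nat.prime_two.coprime_iff_not_dvd).2 hN))
    (orderOf_dvd_of_pow_eq_one ?_) (Subgroup.index_eq_card N ▸ orderOf_dvd_natCard (x : G ⧸ N))
  rw [← QuotientGroup.mk_pow, hj', QuotientGroup.mk_one]

/-- The elements of `O_{2',2}` are products `o s` with `o ∈ O(G)` and `s` in a given Sylow 2-subgroup. -/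
theorem exists_mul_of_mem_pPrimePCore (S : Sylow 2 G) {y : G} (hy : y ∈ Cfsg.pPrimePCore 2 G) :
    ∃ o ∈ Cfsg.pPrimeCore 2 G, ∃ s ∈ (S : Subgroup G), y = o * s := by
  have h1 : QuotientGroup.mk' (Cfsg.pPrimeCore 2 G) y ∈ Cfsg.pCore 2 (G ⧸ Cfsg.pPrimeCore 2 G) := hy
  have h2 := CfsgLib.PCore.pCore_le_sylow
    (S.mapSurjective (QuotientGroup.mk'_surjective (Cfsg.pPrimeCore 2 G))) h1
  rw [Sylow.coe_mapSurjective] at h2
  obtain ⟨s, hs, e⟩ := h2
  refine ⟨y * s⁻¹, ?_, s, hs, (inv_mul_cancel_right y s).symm⟩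
  rw [← QuotientGroup.eq_one_iff, QuotientGroup.mk_mul, QuotientGroup.mk_inv]
  rw [QuotientGroup.mk'_apply, QuotientGroup.mk'_apply] at e
  rw [← e, mul_inv_cancel]

/-- Conjugation of a central involution by an element of `O(H)` into `S` is trivial. -/
theorem conj_core_eq (S : Sylow 2 G) {o a : G} (ho : o ∈ Cfsg.pPrimeCore 2 G)
    (ha : a ∈ (S : Subgroup G)) (h : o * a * o⁻¹ ∈ (S : Subgroup G)) : o * a * o⁻¹ = a := by
  haveI : (Cfsg.pPrimeCore 2 G).Normal := inferInstance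
  have h1 : a⁻¹ * (o * a * o⁻¹) ∈ (S : Subgroup G) ⊓ Cfsg.pPrimeCore 2 G := by
    refine ⟨(S : Subgroup G).mul_mem ((S : Subgroup G).inv_mem ha) h, ?_⟩
    have h2 := (Cfsg.pPrimeCore 2 G).mul_mem
      (this.conj_mem o ho a⁻¹) ((Cfsg.pPrimeCore 2 G).inv_mem ho)
    rwa [show a⁻¹ * o * a⁻¹⁻¹ * o⁻¹ = a⁻¹ * (o * a * o⁻¹) by group] at h2
  rw [inf_eq_bot_of_odd S.2 (Nat.coprime_two_right.1 CfsgLib.PCore.pPrimeCore_coprime),
    Subgroup.mem_bot, inv_mul_eq_one] at h1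
  exact h1.symm

variable [IsSimpleGroup G]

theorem controlled {σ τ : MulAut G} (hσ : σ ^ 3 = 1) (h3 : ¬ 3 ∣ Nat.card G)
    (hodd : Odd (Nat.card (fixedSub σ))) (hab : ∀ x ∈ fixedSub σ, ∀ y ∈ fixedSub σ, x * y = y * x)
    (hns : ¬ Group.IsSolvable G)
    (hsolv : ∀ H : Subgroup G, H ≠ ⊤ → (∀ x ∈ H, σ x ∈ H) → (∀ x ∈ H, τ x ∈ H) → Group.IsSolvable H)
    (S : Sylow 2 G) (hSne : (S : Subgroup G) ≠ ⊥) (hSσ : ∀ x ∈ (S : Subgroup G), σ x ∈ (S : Subgroup G))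
    (hSτ : ∀ x ∈ (S : Subgroup G), τ x ∈ (S : Subgroup G)) :
    Controlled S (fixedSub σ ⊓ normalizer ((S : Subgroup G) : Set G)) ∧
      centralInvols (S : Subgroup G) ≠ ⊥ := by
  set Ssub : Subgroup G := (S : Subgroup G) with hSsub
  have hctrl : CfsgLib.SFour.CtrlFromFunctor.{u} := fun _ W h1 h2 h3 =>
    CfsgLib.SFour.exists_ctrl W h1 h2 h3
  obtain ⟨W, hWc, hWlow, -, hW⟩ :=
    CfsgLib.SFour.exists_char_controls hctrl (not_involves_perm_four h3) S
  set WG := W.map Ssub.subtype with hWG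
  -- `V ≠ 1` and `W ≠ 1`
  haveI : Nontrivial Ssub := (Subgroup.nontrivial_iff_ne_bot _).2 hSne
  haveI : Nontrivial (center Ssub) := S.2.center_nontrivial
  have hcp : IsPGroup 2 (center Ssub) := IsPGroup.to_subgroup S.2 _
  obtain ⟨z, hz⟩ : ∃ z : center Ssub, orderOf z = 2 := by
    obtain ⟨k, hk⟩ := hcp.exists_card_eq
    refine exists_prime_orderOf_dvd_card' 2 ?_
    rw [hk]
    refine dvd_pow_self 2 fun h0 => ?_
    rw [h0, pow_zero] at hk
    exact absurd hk (Finite.one_lt_card).ne'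
  have hz2 : ((z : Ssub) : G) * ((z : Ssub) : G) = 1 := by
    have h1 : z ^ 2 = 1 := hz ▸ pow_orderOf_eq_one z
    have h2 := congrArg (fun y : center Ssub => ((y : Ssub) : G)) h1
    simpa [pow_two] using h2
  have hz1 : ((z : Ssub) : G) ≠ 1 := fun h1 => by
    have : z = 1 := Subtype.ext (Subtype.ext h1)
    rw [this, orderOf_one] at hz
    omega
  have hV : centralInvols Ssub ≠ ⊥ := fun h0 => hz1 (Subgroup.mem_bot.1 (h0 ▸
    ⟨(z : Ssub).2, hz2, fun s hs => congrArg Subtype.val (Subgroup.mem_center_iff.1 z.2 ⟨s, hs⟩)⟩))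
  have hWG1 : WG ≠ ⊥ := fun h0 => hz1 (Subgroup.mem_bot.1 (h0 ▸ hWlow (Subgroup.subset_closure
    ⟨⟨(z : Ssub), z.2, rfl⟩, by rw [pow_two]; exact hz2⟩)))
  have hWinv : ∀ α : MulAut G, (∀ x ∈ Ssub, α x ∈ Ssub) →
      ∀ x ∈ normalizer (WG : Set G), α x ∈ normalizer (WG : Set G) := by
    intro α hα
    have hWα : WG.map α.toMonoidHom = WG := by
      refine map_eq_of_mapsTo ?_
      rintro _ ⟨w, hw, rfl⟩
      exact ⟨CfsgLib.HallHigman.restrictAut α Ssub (map_eq_of_mapsTo hα) w,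
        (Subgroup.characteristic_iff_map_eq.1 hWc _).le ⟨w, hw, rfl⟩, rfl⟩
    intro x hx
    rw [mem_normalizer_iff] at hx ⊢
    intro w
    obtain ⟨w', rfl⟩ := α.surjective w
    have hiff : ∀ y, α y ∈ WG ↔ y ∈ WG := fun y => by
      refine ⟨fun hy => ?_, fun hy => mem_of_map_eq hWα hy⟩
      rw [← hWα] at hy
      obtain ⟨y', hy', e⟩ := hy
      exact α.injective e ▸ hy'
    rw [show α x * α w' * (α x)⁻¹ = α (x * w' * x⁻¹) by simp, hiff, hiff]
    exact hx w'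
  have hNWtop : normalizer (WG : Set G) ≠ ⊤ := by
    intro htop
    rcases (normalizer_eq_top_iff.1 htop).eq_bot_or_eq_top with h0 | h0
    · exact hWG1 h0
    · apply hns
      have hS : Ssub = ⊤ := eq_top_iff.2 (h0 ▸ map_subtype_le W)
      have hp : IsPGroup 2 G := (hS ▸ S.2 : IsPGroup 2 (⊤ : Subgroup G)).of_equiv Subgroup.topEquiv
      haveI := hp.isNilpotent
      infer_instance
  set M := normalizer (WG : Set G) with hMdef
  have hMsolv : Group.IsSolvable M := hsolv M hNWtop (hWinv σ hSσ) (hWinv τ hSτ)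
  have hSM : Ssub ≤ M := by
    rw [hMdef, le_normalizer_iff]
    rintro s hs _ ⟨w, hw, rfl⟩
    exact ⟨MulAut.conj (⟨s, hs⟩ : Ssub) w, (Subgroup.characteristic_iff_map_eq.1 hWc _).le ⟨w, hw, rfl⟩, rfl⟩
  -- the normalizer of `S`
  set N := normalizer (Ssub : Set G) with hNdef
  have hNinv : ∀ α : MulAut G, (∀ x ∈ Ssub, α x ∈ Ssub) → ∀ x ∈ N, α x ∈ N := by
    intro α hα x hx
    rw [hNdef, mem_normalizer_iff] at hx ⊢
    intro w
    obtain ⟨w', rfl⟩ := α.surjective w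
    have hiff : ∀ y, α y ∈ Ssub ↔ y ∈ Ssub := fun y => by
      refine ⟨fun hy => ?_, hα y⟩
      rw [← map_eq_of_mapsTo hα] at hy
      obtain ⟨y', hy', e⟩ := hy
      exact α.injective e ▸ hy'
    rw [show α x * α w' * (α x)⁻¹ = α (x * w' * x⁻¹) by simp, hiff, hiff]
    exact hx w'
  have hNtop : N ≠ ⊤ := by
    intro htop
    rcases (normalizer_eq_top_iff.1 htop).eq_bot_or_eq_top with h0 | h0
    · exact hSne h0
    · apply hns
      have hp : IsPGroup 2 G := (h0 ▸ S.2 : IsPGroup 2 (⊤ : Subgroup G)).of_equiv Subgroup.topEquiv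
      haveI := hp.isNilpotent
      infer_instance
  have hNsolv : Group.IsSolvable N := hsolv N hNtop (hNinv σ hSσ) (hNinv τ hSτ)
  refine ⟨⟨fun x hx y hy => hab x hx.1 y hy.1, Odd.of_dvd_nat hodd (Subgroup.card_dvd_of_le inf_le_left),
    inf_le_right, fun g A hA hgA => ?_⟩, hV⟩
  obtain ⟨x, hx, hxA⟩ := (hW A (hA.trans fun _ ha => ha.1)).2 g (by
    rintro _ ⟨a, ha, rfl⟩; exact hgA a ha)
  -- in `M`: `x = n o s`
  set σM := CfsgLib.HallHigman.restrictAut σ M (map_eq_of_mapsTo (hWinv σ hSσ))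
  haveI := hMsolv
  obtain ⟨-, hidxM⟩ := pPrimePCore_sup_fixedSub (σ := σM) (CfsgLib.HallHigman.restrictAut_pow_eq_one σ M _ hσ)
    (not_dvd_card_subgroup M h3) (fixed_odd_comm M _ hodd hab).1 (fixed_odd_comm M _ hodd hab).2
  set SM : Sylow 2 M := S.subtype hSM
  haveI hPn : (Cfsg.pPrimePCore 2 M).Normal := inferInstance
  have hSMle : (SM : Subgroup M) ≤ Cfsg.pPrimePCore 2 M := le_of_odd_index SM.2 hidxM
  have hsup := Sylow.normalizer_sup_eq_top' SM hSMle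
  obtain ⟨n, hn, y, hy, hny⟩ :=
    Subgroup.mem_sup_of_normal_right.1 (hsup ▸ mem_top (⟨x, hx⟩ : M))
  obtain ⟨o, ho, s, hs, rfl⟩ := exists_mul_of_mem_pPrimePCore SM hy
  have hnN : (n : G) ∈ N := by
    rw [hNdef, mem_normalizer_iff]
    intro w
    constructor
    · intro hw
      exact (mem_normalizer_iff.1 hn ⟨w, hSM hw⟩).1 hw
    · intro hw
      have hwM : w ∈ M := by
        have := M.mul_mem (M.mul_mem (M.inv_mem n.2) (hSM hw)) n.2
        rwa [show (n : G)⁻¹ * ((n : G) * w * (n : G)⁻¹) * n = w by group] at this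
      exact (mem_normalizer_iff.1 hn ⟨w, hwM⟩).2 hw
  have hxa : ∀ a ∈ A, x * a * x⁻¹ = (n : G) * a * (n : G)⁻¹ := by
    intro a ha
    have hsa : (s : G) * a * (s : G)⁻¹ = a := by rw [(hA ha).2.2 s hs, mul_inv_cancel_right]
    have hxS : x * a * x⁻¹ ∈ Ssub := hxA a ha ▸ hgA a ha
    have hxe : x = (n : G) * ((o : G) * s) := (congrArg Subtype.val hny).symm
    have he : x * a * x⁻¹ = (n : G) * ((o : G) * a * (o : G)⁻¹) * (n : G)⁻¹ := by
      conv_rhs => rw [← hsa]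
      rw [hxe]; group
    rw [he] at hxS ⊢
    have hoS : (o : G) * a * (o : G)⁻¹ ∈ Ssub := (mem_normalizer_iff.1 hnN _).2 hxS
    have h1 : o * ⟨a, hSM (hA ha).1⟩ * o⁻¹ = (⟨a, hSM (hA ha).1⟩ : M) :=
      conj_core_eq SM ho (a := ⟨a, hSM (hA ha).1⟩) (hA ha).1 hoS
    rw [show (o : G) * a * (o : G)⁻¹ = a from congrArg Subtype.val h1]
  -- in `N`: `n = y c`
  set σN := CfsgLib.HallHigman.restrictAut σ N (map_eq_of_mapsTo (hNinv σ hSσ))
  haveI := hNsolv
  obtain ⟨hsupN, -⟩ := pPrimePCore_sup_fixedSub (σ := σN) (CfsgLib.HallHigman.restrictAut_pow_eq_one σ N _ hσ)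
    (not_dvd_card_subgroup N h3) (fixed_odd_comm N _ hodd hab).1 (fixed_odd_comm N _ hodd hab).2
  haveI : (Cfsg.pPrimePCore 2 N).Normal := inferInstance
  obtain ⟨c, hc, y', hy', hcy⟩ :=
    Subgroup.mem_sup_of_normal_right.1 ((sup_comm _ _).trans hsupN ▸ mem_top (⟨n, hnN⟩ : N))
  set SN : Sylow 2 N := S.subtype le_normalizer
  obtain ⟨o', ho', s', hs', rfl⟩ := exists_mul_of_mem_pPrimePCore SN hy'
  refine ⟨(c : G), ⟨congrArg Subtype.val (show σN c = c from hc), c.2⟩, fun a ha => ?_⟩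
  rw [hxA a ha, hxa a ha]
  have hsa : (s' : G) * a * (s' : G)⁻¹ = a := by rw [(hA ha).2.2 s' hs', mul_inv_cancel_right]
  have hoS : (o' : G) * a * (o' : G)⁻¹ ∈ Ssub := (mem_normalizer_iff.1 o'.2 a).1 (hA ha).1
  have h1 : o' * ⟨a, le_normalizer (hA ha).1⟩ * o'⁻¹ = (⟨a, le_normalizer (hA ha).1⟩ : N) :=
    conj_core_eq SN ho' (a := ⟨a, le_normalizer (hA ha).1⟩) (hA ha).1 hoS
  have hoa : (o' : G) * a * (o' : G)⁻¹ = a := congrArg Subtype.val h1
  have hne : (n : G) = (c : G) * ((o' : G) * s') := (congrArg Subtype.val hcy).symm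
  calc (n : G) * a * (n : G)⁻¹ = (c : G) * ((o' : G) * ((s' : G) * a * (s' : G)⁻¹) * (o' : G)⁻¹) * (c : G)⁻¹ := by
        rw [hne]; group
    _ = (c : G) * a * (c : G)⁻¹ := by rw [hsa, hoa]

end CfsgLib.FpfSymThree
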