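import Cfsg.Agent.Lib.FpfSymThree.Fusion
import Cfsg.Agent.Lib.FpfSymThree.CentreFusionMain
import Cfsg.Agent.Lib.Frobenius.FPFThompson
import Cfsg.Agent.Lib.Structure.SolvableRadical

/-!
# Groups of order prime to three with a fixed-point-free action of the symmetric group of degree three
-/

set_option autoImplicit false
set_option linter.unusedSectionVars false
set_option linter.style.haveILetI false

namespace CfsgLib.FpfSymThree

open Subgroup
open scoped Pointwise

universe u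

local instance : Fact (Nat.Prime 2) := ⟨Nat.prime_two⟩
local instance : Fact (Nat.Prime 3) := ⟨Nat.prime_three⟩

variable {G : Type u} [Group G] [Finite G]

/-- The hypotheses: a fixed-point-free action of `S₃` on a group of order prime to `3`. -/
structure Hyp (σ τ : MulAut G) : Prop where
  pow_three : σ ^ 3 = 1
  sq : ∀ x, τ (τ x) = x
  conj : ∀ x, τ (σ x) = σ (σ (τ x))
  fpf : ∀ x, σ x = x → τ x = x → x = 1
  not_dvd : ¬ 3 ∣ Nat.card G

variable {σ τ : MulAut G}

theorem Hyp.mapsTo_fixedSub (h : Hyp σ τ) : ∀ x ∈ fixedSub σ, τ x ∈ fixedSub σ := by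
  intro x hx
  have hx' : σ x = x := hx
  have e1 : τ x = σ (σ (τ x)) := by
    have e := h.conj x
    rwa [hx'] at e
  show σ (τ x) = τ x
  conv_lhs => rw [e1]
  exact pow_three_apply h.pow_three _

theorem Hyp.fixed_inv (h : Hyp σ τ) : Odd (Nat.card (fixedSub σ)) ∧
    (∀ x ∈ fixedSub σ, ∀ y ∈ fixedSub σ, x * y = y * x) ∧ ∀ x ∈ fixedSub σ, τ x = x⁻¹ := by
  classical
  haveI := Fintype.ofFinite (fixedSub σ)
  let φ : fixedSub σ →* fixedSub σ :=
    (τ.toMonoidHom.comp (fixedSub σ).subtype).codRestrict (fixedSub σ) fun x => h.mapsTo_fixedSub x x.2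
  have hfix : MonoidHom.FixedPointFree φ := fun x hx =>
    Subtype.ext (h.fpf x x.2 (congrArg Subtype.val hx))
  have hinv : Function.Involutive φ := fun x => Subtype.ext (h.sq x)
  refine ⟨hfix.odd_card_of_involutive hinv, fun x hx y hy => ?_, fun x hx => ?_⟩
  · exact congrArg Subtype.val ((hfix.commute_all_of_involutive hinv ⟨x, hx⟩ ⟨y, hy⟩).eq)
  · exact congrArg Subtype.val (congrFun (hfix.coe_eq_inv_of_involutive hinv) ⟨x, hx⟩)

theorem Hyp.restrict (h : Hyp σ τ) (H : Subgroup G) (hσ : H.map σ.toMonoidHom = H)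
    (hτ : H.map τ.toMonoidHom = H) :
    Hyp (CfsgLib.HallHigman.restrictAut σ H hσ) (CfsgLib.HallHigman.restrictAut τ H hτ) where
  pow_three := CfsgLib.HallHigman.restrictAut_pow_eq_one σ H hσ h.pow_three
  sq x := Subtype.ext (h.sq x)
  conj x := Subtype.ext (h.conj x)
  fpf x hx hy := Subtype.ext (h.fpf x (congrArg Subtype.val hx) (congrArg Subtype.val hy))
  not_dvd := not_dvd_card_subgroup H h.not_dvd

theorem Hyp.quot (h : Hyp σ τ) (N : Subgroup G) [N.Normal] (hσ : N.map σ.toMonoidHom = N)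
    (hτ : N.map τ.toMonoidHom = N) :
    Hyp (CfsgLib.InvertedBound.quotAut N σ hσ) (CfsgLib.InvertedBound.quotAut N τ hτ) where
  pow_three := quotAut_pow_three h.pow_three N hσ
  sq q := by
    obtain ⟨g, rfl⟩ := QuotientGroup.mk_surjective q
    simp [CfsgLib.InvertedBound.quotAut_mk, h.sq]
  conj q := by
    obtain ⟨g, rfl⟩ := QuotientGroup.mk_surjective q
    simp [CfsgLib.InvertedBound.quotAut_mk, h.conj]
  fpf q hq hq' := by
    have hq1 : q ∈ fixedSub (CfsgLib.InvertedBound.quotAut N σ hσ) := hq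
    rw [fixedSub_quotAut h.pow_three h.not_dvd N hσ] at hq1
    obtain ⟨hodd, -, hinv⟩ := h.fixed_inv
    obtain ⟨c, hc, rfl⟩ := hq1
    rw [QuotientGroup.mk'_apply, CfsgLib.InvertedBound.quotAut_mk, hinv c hc, QuotientGroup.mk_inv] at hq'
    have h2 : (c : G ⧸ N) ^ 2 = 1 := by rw [pow_two, ← mul_inv_cancel (c : G ⧸ N), hq']
    rw [QuotientGroup.mk'_apply, ← orderOf_eq_one_iff]
    refine Nat.eq_one_of_dvd_coprimes (Nat.coprime_two_left.2 hodd) (orderOf_dvd_of_pow_eq_one h2)
      ((orderOf_map_dvd (QuotientGroup.mk' N) c).trans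
        (Subgroup.orderOf_coe (⟨c, hc⟩ : fixedSub σ) ▸ orderOf_dvd_natCard _))
  not_dvd := not_dvd_card_quotient N h.not_dvd

theorem Hyp.exists_sylow (h : Hyp σ τ) : ∃ S : Sylow 2 G,
    (∀ x ∈ (S : Subgroup G), σ x ∈ (S : Subgroup G)) ∧ ∀ x ∈ (S : Subgroup G), τ x ∈ (S : Subgroup G) := by
  classical
  obtain ⟨P, hP⟩ := exists_invariant_sylow h.pow_three h.not_dvd 2
  obtain ⟨hodd, -, -⟩ := h.fixed_inv
  let X := {Q : Sylow 2 G // σ • Q = Q}
  let C := fixedSub σ
  have hnat : ∀ c : G, σ c = c → ∀ Q : Sylow 2 G, σ • Q = Q → σ • (c • Q) = c • Q := by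
    intro c hc Q hQ
    refine smul_eq_of_mapsTo ?_
    rintro _ ⟨x, hx, rfl⟩
    refine ⟨σ x, mapsTo_of_smul_eq hQ x hx, ?_⟩
    show c * σ x * c⁻¹ = σ (c * x * c⁻¹)
    rw [map_mul, map_mul, map_inv, hc]
  letI : MulAction C X :=
    { smul := fun c Q => ⟨(c : G) • Q.1, hnat c c.2 Q.1 Q.2⟩
      one_smul := fun Q => Subtype.ext (one_smul G Q.1)
      mul_smul := fun c d Q => Subtype.ext (mul_smul (c : G) (d : G) Q.1) }
  have hP' : σ • P = P := smul_eq_of_mapsTo hP
  have htrans : ∀ Q : X, Q ∈ MulAction.orbit C (⟨P, hP'⟩ : X) := fun Q => by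
    obtain ⟨c, hc, e⟩ := exists_fixed_conj h.pow_three h.not_dvd hP (mapsTo_of_smul_eq Q.2)
    exact ⟨⟨c, hc⟩, Subtype.ext e⟩
  have hoddX : Odd (Nat.card X) := by
    refine Odd.of_dvd_nat hodd ?_
    rw [← Nat.card_congr (Equiv.subtypeUnivEquiv htrans)]
    show Nat.card (MulAction.orbit C (⟨P, hP'⟩ : X)) ∣ _
    rw [Nat.card_coe_set_eq, ← MulAction.index_stabilizer]
    exact Subgroup.index_dvd_card _
  have hστ : σ * τ = τ * (σ * σ) := by
    refine MulEquiv.ext fun x => ?_
    show σ (τ x) = τ (σ (σ x))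
    rw [h.conj, h.conj, pow_three_apply h.pow_three]
  have hmaps : ∀ Q : Sylow 2 G, σ • Q = Q → σ • (τ • Q) = τ • Q := fun Q hQ => by
    rw [smul_smul, hστ, mul_smul, mul_smul, hQ, hQ]
  have hττ : τ * τ = 1 := MulEquiv.ext h.sq
  let f : X ≃ X :=
    { toFun := fun Q => ⟨τ • Q.1, hmaps Q.1 Q.2⟩
      invFun := fun Q => ⟨τ • Q.1, hmaps Q.1 Q.2⟩
      left_inv := fun Q => Subtype.ext (by show τ • τ • Q.1 = Q.1; rw [smul_smul, hττ, one_smul])
      right_inv := fun Q => Subtype.ext (by show τ • τ • Q.1 = Q.1; rw [smul_smul, hττ, one_smul]) }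
  haveI := Fintype.ofFinite X
  obtain ⟨Q, hQ⟩ := Equiv.Perm.exists_fixed_point_of_prime (p := 2) (n := 1) (σ := f)
    (by rw [← Nat.card_eq_fintype_card]; exact fun hd => Nat.not_even_iff_odd.2 hoddX (even_iff_two_dvd.2 hd))
    (Equiv.ext fun Q => by rw [pow_one, pow_two]; exact Subtype.ext (by
      show τ • τ • Q.1 = Q.1; rw [smul_smul, hττ, one_smul]))
  exact ⟨Q.1, mapsTo_of_smul_eq Q.2, mapsTo_of_smul_eq (congrArg Subtype.val hQ)⟩

/-- A group without proper nontrivial invariant normal subgroups is solvable or simple. -/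
theorem Hyp.isSimple (h : Hyp σ τ) (hns : ¬ Group.IsSolvable G)
    (hmin : ∀ N : Subgroup G, N.Normal → (∀ x ∈ N, σ x ∈ N) → (∀ x ∈ N, τ x ∈ N) → N = ⊥ ∨ N = ⊤) :
    IsSimpleGroup G := by
  obtain ⟨hodd, hab, hinv⟩ := h.fixed_inv
  haveI : Nontrivial G := by
    by_contra hnt
    rw [not_nontrivial_iff_subsingleton] at hnt
    exact hns (Group.isSolvable_of_comm fun a b => Subsingleton.elim _ _)
  obtain ⟨L, hL⟩ : ∃ L : Subgroup G, Minimal (fun N : Subgroup G => N.Normal ∧ N ≠ ⊥) L :=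
    (Set.toFinite _).exists_minimal ⟨⊤, inferInstance, top_ne_bot⟩
  haveI := hL.prop.1
  have hmap : ∀ (α : MulAut G) (N : Subgroup G), N.Normal → (N.map α.toMonoidHom).Normal :=
    fun α N hN => hN.map _ α.surjective
  have hsmall : ∀ N : Subgroup G, N.Normal → N ≤ L → N = ⊥ ∨ N = L := fun N hN hle => by
    by_cases hb : N = ⊥
    · exact Or.inl hb
    · exact Or.inr (le_antisymm hle (hL.le_of_le ⟨hN, hb⟩ hle))
  have hdisj : ∀ α : MulAut G, L.map α.toMonoidHom ≠ L → L.map α.toMonoidHom ⊓ L = ⊥ := by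
    intro α hne
    haveI := hmap α L hL.prop.1
    refine (hsmall _ inferInstance inf_le_right).resolve_right fun he => hne ?_
    exact (Subgroup.eq_of_le_of_card_ge (inf_eq_right.1 he)
      (le_of_eq (Subgroup.card_map_of_injective (f := α.toMonoidHom) α.injective))).symm
  have hcomm : ∀ A B : Subgroup G, A.Normal → B.Normal → A ⊓ B = ⊥ → ∀ a ∈ A, ∀ b ∈ B, Commute a b :=
    fun A B hA hB hAB a ha b hb => Subgroup.commute_of_normal_of_disjoint A B hA hB (disjoint_iff.2 hAB) a b ha hb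
  -- `L` is not abelian, hence has trivial centre
  have hLna : ¬ ∀ x ∈ L, ∀ y ∈ L, x * y = y * x := by
    intro hLab
    set J : Subgroup G := L ⊔ L.map σ.toMonoidHom ⊔ L.map (σ * σ).toMonoidHom
    -- the radical generated by the invariant translates is solvable
    set R : Subgroup G := Cfsg.solvableRadical G
    have hR : R.Normal ∧ Group.IsSolvable R :=
      ⟨CfsgLib.Structure.solvableRadical_normal, CfsgLib.Structure.isSolvable_solvableRadical⟩
    have hinvR : ∀ α : MulAut G, ∀ x ∈ R, α x ∈ R := by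
      intro α x hx
      have hle : R.map α.toMonoidHom ≤ R := by
        haveI := hR.2
        exact CfsgLib.Structure.le_solvableRadical (hmap α R hR.1) (Group.isSolvable_of_surjective
          (f := (α.subgroupMap R).toMonoidHom) (α.subgroupMap R).surjective)
      exact hle ⟨x, hx, rfl⟩
    have hLR : L ≤ R := CfsgLib.Structure.le_solvableRadical hL.prop.1 (Group.isSolvable_of_comm fun a b =>
      Subtype.ext (hLab a a.2 b b.2))
    rcases hmin R hR.1 (hinvR σ) (hinvR τ) with h0 | h0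
    · exact hL.prop.2 (eq_bot_iff.2 (h0 ▸ hLR))
    · apply hns
      haveI : Group.IsSolvable R := hR.2
      exact Group.isSolvable_of_surjective (f := R.subtype) fun g => ⟨⟨g, h0 ▸ mem_top g⟩, rfl⟩
  have hZ : ∀ x ∈ L, (∀ y ∈ L, x * y = y * x) → x = 1 := by
    intro x hx hxc
    haveI : (L ⊓ centralizer (L : Set G)).Normal := inferInstance
    rcases hsmall (L ⊓ centralizer (L : Set G)) inferInstance inf_le_left with h0 | h0
    · exact Subgroup.mem_bot.1 (h0 ▸ ⟨hx, mem_centralizer_iff.2 fun y hy => (hxc y hy).symm⟩)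
    · exact absurd (fun a ha b hb => (mem_centralizer_iff.1 (inf_eq_left.1 h0 ha) b hb).symm) hLna
  -- `σ` fixes `L`
  have hσL : L.map σ.toMonoidHom = L := by
    by_contra hne
    set σ2 : MulAut G := σ * σ
    have hcomp : ∀ α β : MulAut G, (L.map β.toMonoidHom).map α.toMonoidHom = L.map (α * β).toMonoidHom :=
      fun α β => Subgroup.map_map ..
    have hne2 : L.map σ2.toMonoidHom ≠ L := fun he => hne (by
      conv_lhs => rw [← he, hcomp, show σ * σ2 = 1 by rw [← h.pow_three, _root_.pow_three]]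
      exact Subgroup.map_id L)
    have h1 : ∀ a ∈ L, ∀ b ∈ L, Commute a (σ b) := fun a ha b hb =>
      hcomm L _ hL.prop.1 (hmap σ L hL.prop.1) (by rw [inf_comm]; exact hdisj σ hne) a ha _ ⟨b, hb, rfl⟩
    have h2 : ∀ a ∈ L, ∀ b ∈ L, Commute a (σ (σ b)) := fun a ha b hb =>
      hcomm L _ hL.prop.1 (hmap σ2 L hL.prop.1) (by rw [inf_comm]; exact hdisj σ2 hne2) a ha _ ⟨b, hb, rfl⟩
    have h12 : ∀ a ∈ L, ∀ b ∈ L, Commute (σ a) (σ (σ b)) := fun a ha b hb =>
      (h1 a ha b hb).map σ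
    set f : G → G := fun x => x * σ x * σ (σ x)
    have hfC : ∀ x ∈ L, f x ∈ fixedSub σ := by
      intro x hx
      show σ (x * σ x * σ (σ x)) = x * σ x * σ (σ x)
      rw [map_mul, map_mul, pow_three_apply h.pow_three]
      exact (((h1 x hx x hx).mul_right (h2 x hx x hx)).eq.symm).trans (mul_assoc _ _ _).symm
    have hfy : ∀ x ∈ L, ∀ y ∈ L, x * y = y * x := by
      intro x hx y hy
      have hk := hab _ (hfC x hx) _ (hfC y hy)
      set k := x * y * x⁻¹ * y⁻¹ with hkdef
      have hkL : k ∈ L := L.mul_mem (L.mul_mem (L.mul_mem hx hy) (L.inv_mem hx)) (L.inv_mem hy)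
      have hfmul : ∀ a ∈ L, ∀ b ∈ L, f (a * b) = f a * f b := by
        intro a ha b hb
        simp only [f, map_mul]
        calc a * b * (σ a * σ b) * (σ (σ a) * σ (σ b))
            = a * (b * σ a) * (σ b * σ (σ a)) * σ (σ b) := by group
          _ = a * (σ a * b) * (σ (σ a) * σ b) * σ (σ b) := by rw [(h1 b hb a ha).eq, (h12 b hb a ha).eq]
          _ = a * σ a * (b * σ (σ a)) * σ b * σ (σ b) := by group
          _ = a * σ a * (σ (σ a) * b) * σ b * σ (σ b) := by rw [(h2 b hb a ha).eq]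
          _ = a * σ a * σ (σ a) * (b * σ b * σ (σ b)) := by group
      have hfk : f k = 1 := by
        have e1 : f k * f (y * x) = f (x * y) := by
          rw [← hfmul k hkL _ (L.mul_mem hy hx), hkdef]
          congr 1
          group
        rw [hfmul x hx y hy, hk, ← hfmul y hy x hx] at e1
        exact mul_eq_right.1 e1
      have hk1 : k = 1 := by
        refine hZ k hkL fun b hb => ?_
        have e : k⁻¹ = σ k * σ (σ k) := by
          rw [eq_comm, ← mul_eq_one_iff_inv_eq.1 (show k * (σ k * σ (σ k)) = 1 by rw [← mul_assoc]; exact hfk)]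
        have h4 : Commute b k⁻¹ := e ▸ (h1 b hb k hkL).mul_right (h2 b hb k hkL)
        exact (Commute.inv_right_iff.1 h4).eq.symm
      rwa [hkdef, mul_inv_eq_one, mul_inv_eq_iff_eq_mul] at hk1
    exact hLna hfy
  -- `L = G`
  by_cases hτL : L.map τ.toMonoidHom = L
  · have hLtop : L = ⊤ := (hmin L hL.prop.1 (fun x hx => mem_of_map_eq hσL hx)
      (fun x hx => mem_of_map_eq hτL hx)).resolve_left hL.prop.2
    refine ⟨fun N hN => ?_⟩
    rcases hsmall N hN (hLtop ▸ le_top) with h0 | h0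
    · exact Or.inl h0
    · exact Or.inr (h0.trans hLtop)
  exfalso
  have hd := hdisj τ hτL
  have hfpfL : ∀ x ∈ L, σ x = x → x = 1 := by
    intro x hx hσx
    have hxC : x ∈ fixedSub σ := hσx
    have h1 : x ∈ L.map τ.toMonoidHom ⊓ L := ⟨⟨x⁻¹, L.inv_mem hx, by
      show τ x⁻¹ = x
      rw [map_inv, hinv x hxC, inv_inv]⟩, hx⟩
    rw [hd] at h1
    exact Subgroup.mem_bot.1 h1
  haveI : Group.IsNilpotent L := CfsgLib.Frobenius.Thompson.isNilpotent_of_fixedPointFree
    (CfsgLib.HallHigman.restrictAut σ L hσL)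
    (fun x hx => Subtype.ext (hfpfL x x.2 (congrArg Subtype.val hx))) Nat.prime_three
    (fun x => Subtype.ext (by
      simp only [Function.iterate_succ, Function.iterate_zero, Function.comp_apply, id_eq,
        CfsgLib.HallHigman.restrictAut_apply]
      exact pow_three_apply h.pow_three _))
  obtain ⟨z, hz, hz1⟩ : ∃ z ∈ center L, z ≠ 1 := by
    haveI : Nontrivial L := (Subgroup.nontrivial_iff_ne_bot _).2 hL.prop.2
    haveI := (Subgroup.nontrivial_iff_ne_bot _).2 (Group.IsNilpotent.center_ne_bot (G := L))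
    obtain ⟨z, hz⟩ := exists_ne (1 : center L)
    exact ⟨z, z.2, fun h1 => hz (Subtype.ext h1)⟩
  exact hz1 (Subtype.ext (hZ z z.2 fun y hy =>
    (congrArg Subtype.val (Subgroup.mem_center_iff.1 hz ⟨y, hy⟩)).symm))

/-- Solvability. -/
theorem Hyp.isSolvable_aux : ∀ (n : ℕ) {G : Type u} [Group G] [Finite G] {σ τ : MulAut G},
    Nat.card G = n → Hyp σ τ → Group.IsSolvable G := by
  intro n
  induction n using Nat.strong_induction_on with
  | _ n ih =>
    intro G _ _ σ τ hn h
    by_contra hns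
    obtain ⟨hodd, hab, hinv⟩ := h.fixed_inv
    have hsolv : ∀ H : Subgroup G, H ≠ ⊤ → (∀ x ∈ H, σ x ∈ H) → (∀ x ∈ H, τ x ∈ H) → Group.IsSolvable H :=
      fun H hH h1 h2 => ih (Nat.card H) (hn ▸ (Nat.lt_of_le_of_ne (Subgroup.card_le_card_group H)
        fun he => hH (Subgroup.eq_top_of_card_eq H he)))
        rfl (h.restrict H (map_eq_of_mapsTo h1) (map_eq_of_mapsTo h2))
    have hmin : ∀ N : Subgroup G, N.Normal → (∀ x ∈ N, σ x ∈ N) → (∀ x ∈ N, τ x ∈ N) → N = ⊥ ∨ N = ⊤ := by
      intro N hN h1 h2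
      by_contra hcon
      rw [not_or] at hcon
      haveI := hsolv N hcon.2 h1 h2
      haveI : Group.IsSolvable (G ⧸ N) := by
        refine ih (Nat.card (G ⧸ N)) (hn ▸ ?_) rfl (h.quot N (map_eq_of_mapsTo h1) (map_eq_of_mapsTo h2))
        have hlt := Subgroup.card_eq_card_quotient_mul_card_subgroup N
        have h2' : 2 ≤ Nat.card N := by
          by_contra h'
          exact hcon.1 (Subgroup.eq_bot_of_card_le N (by omega))
        have := Nat.card_pos (α := G ⧸ N)
        have := Nat.mul_le_mul_left (Nat.card (G ⧸ N)) h2'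
        omega
      exact hns ((Group.isSolvable_iff_subgroup_quotient N).2 ⟨‹_›, ‹_›⟩)
    haveI := h.isSimple hns hmin
    have hna : ¬ ∀ x y : G, x * y = y * x := fun hc => hns (Group.isSolvable_of_comm hc)
    obtain ⟨S, hSσ, hSτ⟩ := h.exists_sylow
    have hSne : (S : Subgroup G) ≠ ⊥ := by
      intro h0
      apply hns
      refine CfsgLib.PF.oddSolvable G ?_
      rw [Nat.odd_iff]
      by_contra hev
      exact S.ne_bot_of_dvd_card (by omega) h0
    obtain ⟨hC, hV⟩ := controlled h.pow_three h.not_dvd hodd hab hns hsolv S hSne hSσ hSτ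
    refine hC.false_of_dvd hna Nat.prime_three hV ?_ fun hd =>
      h.not_dvd (hd.trans (Subgroup.card_subgroup_dvd_card _))
    -- `σ` has no fixed points on `V#`
    classical
    set V := CfsgLib.CentreFusion.centralInvols (S : Subgroup G)
    have hVσ : ∀ x ∈ V, σ x ∈ V := by
      intro x hx
      refine ⟨hSσ x hx.1, by rw [← map_mul, hx.2.1, map_one], fun s hs => ?_⟩
      have hs' := hSσ _ (hSσ s hs)
      have e := congrArg σ (hx.2.2 _ hs')
      rwa [map_mul, map_mul, pow_three_apply h.pow_three] at e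
    let X := {x : V // x ≠ 1}
    let f : X → X := fun x => ⟨⟨σ x.1, hVσ _ x.1.2⟩, fun h1 => x.2 (Subtype.ext (σ.injective
      ((congrArg Subtype.val h1).trans (map_one σ).symm)))⟩
    have hf : ∀ x, f (f (f x)) = x := fun x => Subtype.ext (Subtype.ext (pow_three_apply h.pow_three _))
    by_contra h3
    haveI := Fintype.ofFinite V
    have hX : Nat.card X = Nat.card V - 1 := by
      rw [Nat.card_eq_fintype_card, Nat.card_eq_fintype_card, Fintype.card_subtype_compl,
        Fintype.card_subtype_eq]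
    obtain ⟨x, hx⟩ := exists_fixed_point (hX ▸ h3) ⟨f, f ∘ f, fun x => hf x, fun x => hf x⟩ hf
    refine x.2 (Subtype.ext ?_)
    have h1 : (x.1 : G) ∈ (S : Subgroup G) ⊓ fixedSub σ :=
      ⟨x.1.2.1, congrArg (fun y : X => ((y.1 : V) : G)) hx⟩
    rw [inf_eq_bot_of_odd S.2 hodd, Subgroup.mem_bot] at h1
    exact h1

theorem Hyp.isSolvable (h : Hyp σ τ) : Group.IsSolvable G := Hyp.isSolvable_aux _ rfl h

end CfsgLib.FpfSymThree
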