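import Cfsg.Agent.Lib.FpfSymThree.Basic
import Cfsg.Agent.Lib.OddOrder41.FpfHallHigman
import Cfsg.Agent.Lib.HallHigman.Setup
import Cfsg.Prelude.Def_Local

/-!
# Solvable groups with an automorphism of order three with abelian fixed points of odd order

If `G` is solvable of order prime to `3` and `σ³ = 1` with `C(σ)` abelian of odd order, then
`G = O_{2',2}(G) C(σ)`.
-/

set_option autoImplicit false
set_option linter.unusedSectionVars false

namespace CfsgLib.FpfSymThree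

open Subgroup
open scoped Pointwise commutatorElement

universe u

variable {G : Type u} [Group G] [Finite G]

local instance : Fact (Nat.Prime 2) := ⟨Nat.prime_two⟩
local instance : Fact (Nat.Prime 3) := ⟨Nat.prime_three⟩

theorem mapsTo_pCore (p : ℕ) (σ : MulAut G) : ∀ x ∈ Cfsg.pCore p G, σ x ∈ Cfsg.pCore p G := fun _ hx =>
  (CfsgLib.PCore.map_pCore_equiv σ).le ⟨_, hx, rfl⟩

theorem mapsTo_pPrimeCore (p : ℕ) (σ : MulAut G) :
    ∀ x ∈ Cfsg.pPrimeCore p G, σ x ∈ Cfsg.pPrimeCore p G := fun _ hx =>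
  (CfsgLib.PCore.map_pPrimeCore_equiv σ).le ⟨_, hx, rfl⟩

/-- With `O(G) = 1`, the Sylow subgroups for odd primes which are invariant are centralised. -/
theorem invariant_le_fixedSub [Group.IsSolvable G] {σ : MulAut G} (hσ : σ ^ 3 = 1)
    (h3 : ¬ 3 ∣ Nat.card G) (hodd : Odd (Nat.card (fixedSub σ))) (hO : Cfsg.pPrimeCore 2 G = ⊥)
    {q : ℕ} [hq : Fact q.Prime] (hq2 : q ≠ 2) (Q : Subgroup G) (hQ : IsPGroup q Q)
    (hQσ : ∀ x ∈ Q, σ x ∈ Q) : Q ≤ fixedSub σ := by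
  by_cases hq3 : q = 3
  · subst hq3
    obtain ⟨k, hk⟩ := hQ.exists_card_eq
    intro x hx
    have hx1 : Q = ⊥ := by
      refine Subgroup.eq_bot_of_card_eq Q ?_
      rcases Nat.eq_zero_or_pos k with rfl | hpos
      · simpa using hk
      · exact absurd ((dvd_pow_self 3 hpos.ne').trans (hk ▸ Subgroup.card_subgroup_dvd_card Q)) h3
    rw [hx1, Subgroup.mem_bot] at hx
    rw [hx]
    exact one_mem _
  by_cases hσ1 : σ = 1
  · intro x _
    rw [mem_fixedSub, hσ1, MulAut.one_apply]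
  have hord : orderOf σ = 3 := orderOf_eq_prime hσ hσ1
  set A : Subgroup (MulAut G) := Subgroup.zpowers σ
  have hAinv : ∀ H : Subgroup G, (∀ x ∈ H, σ x ∈ H) → ∀ a ∈ A, ∀ x ∈ H, a x ∈ H := by
    intro H hH a ha
    have hσH : σ ∈ MulAction.stabilizer (MulAut G) H := map_eq_of_mapsTo hH
    have haH : a • H = H := (Subgroup.zpowers_le.2 hσH) ha
    intro x hx
    exact haH ▸ Subgroup.smul_mem_pointwise_smul x a H hx
  set T := Cfsg.pCore 2 G
  haveI hTn : T.Normal := inferInstance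
  let φ : A →* MulAut G := A.subtype
  let l : G →* G ⋊[φ] A := SemidirectProduct.inl
  let r : A →* G ⋊[φ] A := SemidirectProduct.inr
  haveI : Finite (G ⋊[φ] A) := Finite.of_equiv _ SemidirectProduct.equivProd.symm
  have hact : ∀ (a : A) (x : G), r a * l x * (r a)⁻¹ = l ((a : MulAut G) x) := fun a x => by
    rw [← map_inv]
    exact (SemidirectProduct.inl_aut (φ := φ) a x).symm
  have hnorm : ∀ H : Subgroup G, (∀ x ∈ H, σ x ∈ H) → r.range ≤ normalizer (H.map l : Set (G ⋊[φ] A)) := by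
    intro H hH
    rw [Subgroup.le_normalizer_iff]
    rintro _ ⟨a, rfl⟩ _ ⟨x, hx, rfl⟩
    rw [hact]
    exact ⟨_, hAinv H hH _ a.2 x hx, rfl⟩
  have hcardR : Nat.card r.range = 3 := by
    rw [Nat.card_congr (MonoidHom.ofInjective (SemidirectProduct.inr_injective (φ := φ))).toEquiv.symm,
      Nat.card_zpowers, hord]
  have hL : Q.map l ⊔ r.range ≤ normalizer (T.map l : Set (G ⋊[φ] A)) := by
    refine sup_le ?_ (hnorm T (mapsTo_pCore 2 σ))
    rw [Subgroup.le_normalizer_iff]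
    rintro _ ⟨x, -, rfl⟩ _ ⟨t, ht, rfl⟩
    exact ⟨x * t * x⁻¹, hTn.conj_mem t ht x, by simp⟩
  have hfix : T.map l ⊓ centralizer (r.range : Set (G ⋊[φ] A)) = ⊥ := by
    rw [eq_bot_iff]
    rintro _ ⟨⟨t, ht, rfl⟩, hc⟩
    have h1 := Subgroup.mem_centralizer_iff.1 hc (r ⟨σ, Subgroup.mem_zpowers σ⟩) ⟨_, rfl⟩
    have h2 : l (σ t) = l t := by
      rw [← hact ⟨σ, Subgroup.mem_zpowers σ⟩ t, h1, mul_inv_cancel_right]
    have h3' : t ∈ T ⊓ fixedSub σ := ⟨ht, SemidirectProduct.inl_injective h2⟩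
    rw [inf_eq_bot_of_odd CfsgLib.PCore.pCore_isPGroup hodd, Subgroup.mem_bot] at h3'
    rw [h3', map_one]
    exact one_mem _
  have key := CfsgLib.OddOrder41.commutator_le_centralizer_of_fpf (p := 3) (q := q) (ℓ := 2)
    (by norm_num) hq2 (Ne.symm hq3) (by norm_num) hq2 (Q.map l) r.range (T.map l) (hQ.map l) hcardR
    ((CfsgLib.PCore.pCore_isPGroup).map l) (hnorm Q hQσ) hL hfix
  intro x hx
  have hmem : ⁅l x, r ⟨σ, Subgroup.mem_zpowers σ⟩⁆ ∈ centralizer (T.map l : Set (G ⋊[φ] A)) :=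
    key (Subgroup.commutator_mem_commutator ⟨x, hx, rfl⟩ ⟨_, rfl⟩)
  have heq : ⁅l x, r ⟨σ, Subgroup.mem_zpowers σ⟩⁆ = l (x * (σ x)⁻¹) := by
    have h1 := hact ⟨σ, Subgroup.mem_zpowers σ⟩ x⁻¹
    rw [commutatorElement_def, mul_assoc (l x), mul_assoc (l x), ← map_inv, h1, ← map_mul, map_inv]
  rw [heq] at hmem
  have hc : x * (σ x)⁻¹ ∈ centralizer (T : Set G) := Subgroup.mem_centralizer_iff.2 fun t ht => by
    have := Subgroup.mem_centralizer_iff.1 hmem (l t) ⟨t, ht, rfl⟩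
    rw [← map_mul, ← map_mul] at this
    exact SemidirectProduct.inl_injective this
  have hT := CfsgLib.PCore.centralizer_pCore_le (CfsgLib.PCore.isPSolvable_of_isSolvable) hO hc
  have hQT : Q ⊓ T = ⊥ := by
    obtain ⟨a, ha⟩ := hQ.exists_card_eq
    obtain ⟨b, hb⟩ := (CfsgLib.PCore.pCore_isPGroup (p := 2) (G := G)).exists_card_eq
    exact Subgroup.inf_eq_bot_of_coprime (by
      rw [ha, hb]
      exact Nat.Coprime.pow _ _ ((Nat.coprime_primes hq.out Nat.prime_two).2 hq2))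
  have h4 : x * (σ x)⁻¹ ∈ Q ⊓ T := ⟨Q.mul_mem hx (Q.inv_mem (hQσ x hx)), hT⟩
  rw [hQT, Subgroup.mem_bot, mul_inv_eq_one] at h4
  exact h4.symm

/-- The case `O(G) = 1`. -/
theorem pCore_sup_fixedSub [Group.IsSolvable G] {σ : MulAut G} (hσ : σ ^ 3 = 1)
    (h3 : ¬ 3 ∣ Nat.card G) (hodd : Odd (Nat.card (fixedSub σ)))
    (hab : ∀ x ∈ fixedSub σ, ∀ y ∈ fixedSub σ, x * y = y * x) (hO : Cfsg.pPrimeCore 2 G = ⊥) :
    Cfsg.pCore 2 G ⊔ fixedSub σ = ⊤ := by
  set T := Cfsg.pCore 2 G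
  haveI : T.Normal := inferInstance
  have hTσ : T.map σ.toMonoidHom = T := map_eq_of_mapsTo (mapsTo_pCore 2 σ)
  have hidx : ∀ q : ℕ, q.Prime → q ≠ 2 → ¬ q ∣ (fixedSub σ).index := by
    intro q hq hq2 hd
    haveI : Fact q.Prime := ⟨hq⟩
    obtain ⟨Q, hQ⟩ := exists_invariant_sylow hσ h3 q
    exact Q.not_dvd_index (hd.trans (Subgroup.index_dvd_of_le
      (invariant_le_fixedSub hσ h3 hodd hO hq2 (Q : Subgroup G) Q.2 hQ)))
  set σ' := CfsgLib.InvertedBound.quotAut T σ hTσ with hσ'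
  set K := (fixedSub σ).map (QuotientGroup.mk' T) with hKdef
  have hfix' : fixedSub σ' = K := fixedSub_quotAut hσ h3 T hTσ
  have hKodd : Odd (Nat.card K) := Odd.of_dvd_nat hodd (Subgroup.card_map_dvd _ _)
  have hKidx : ∀ q : ℕ, q.Prime → q ≠ 2 → ¬ q ∣ K.index := fun q hq hq2 hd =>
    hidx q hq hq2 (hd.trans (Subgroup.index_map_dvd _ (QuotientGroup.mk'_surjective T)))
  have hKab : ∀ x ∈ K, ∀ y ∈ K, x * y = y * x := by
    rintro _ ⟨x, hx, rfl⟩ _ ⟨y, hy, rfl⟩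
    rw [← map_mul, ← map_mul, hab x hx y hy]
  set F := Cfsg.pPrimeCore 2 (G ⧸ T) with hFdef
  haveI hFn : F.Normal := inferInstance
  have hFodd : Odd (Nat.card F) :=
    Nat.coprime_two_right.1 CfsgLib.PCore.pPrimeCore_coprime
  have hFK : F ≤ K := by
    have hJ : Odd (Nat.card (F ⊔ K : Subgroup (G ⧸ T))) :=
      Odd.of_dvd_nat (hFodd.mul hKodd) (CfsgLib.PCore.card_sup_dvd_mul F K)
    have hrel : K.relIndex (F ⊔ K) = 1 := by
      by_contra hne
      obtain ⟨q, hq, hqd⟩ := Nat.exists_prime_and_dvd hne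
      have hq2 : q ≠ 2 := fun h2 => by
        subst h2
        exact Nat.not_even_iff_odd.2 hJ
          (even_iff_two_dvd.2 (hqd.trans (Subgroup.relIndex_dvd_card _ _)))
      exact hKidx q hq hq2 (hqd.trans (Subgroup.relIndex_dvd_index_of_le le_sup_right))
    exact le_sup_left.trans (Subgroup.relIndex_eq_one.1 hrel)
  have hCF : centralizer (F : Set (G ⧸ T)) ≤ F :=
    CfsgLib.HallHigman.centralizer_pPrimeCore_le (CfsgLib.PCore.isPSolvable_of_isSolvable)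
      CfsgLib.PCore.pCore_quotient_pCore
  have hKF : K ≤ F := fun x hx => hCF (Subgroup.mem_centralizer_iff.2 fun f hf => hKab f (hFK hf) x hx)
  have hKn : K.Normal := le_antisymm hKF hFK ▸ hFn
  have hfixK : ∀ x, σ' x = x ↔ x ∈ K := fun x => by rw [← hfix']; exact Iff.rfl
  have hσ'3 : σ' ^ 3 = 1 := quotAut_pow_three hσ T hTσ
  have hall : ∀ y : G ⧸ T, y ∈ K := by
    intro y
    have hk : y⁻¹ * σ' y ∈ K := by
      refine hFK (hCF (Subgroup.mem_centralizer_iff.2 fun f hf => ?_))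
      have h1 : y * f * y⁻¹ ∈ K := hKn.conj_mem f (hFK hf) y
      have h2 := (hfixK _).2 h1
      rw [map_mul, map_mul, map_inv, (hfixK f).2 (hFK hf)] at h2
      have h3' : f * (σ' y)⁻¹ * y = (σ' y)⁻¹ * y * f := by
        calc f * (σ' y)⁻¹ * y = (σ' y)⁻¹ * (σ' y * f * (σ' y)⁻¹) * y := by group
          _ = (σ' y)⁻¹ * (y * f * y⁻¹) * y := by rw [h2]
          _ = (σ' y)⁻¹ * y * f := by group
      calc f * (y⁻¹ * σ' y) = (y⁻¹ * σ' y) * ((σ' y)⁻¹ * y * f) * (y⁻¹ * σ' y) := by group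
        _ = (y⁻¹ * σ' y) * (f * (σ' y)⁻¹ * y) * (y⁻¹ * σ' y) := by rw [h3']
        _ = (y⁻¹ * σ' y) * f := by group
    set k := y⁻¹ * σ' y with hkdef
    have h1 : σ' y = y * k := by rw [hkdef, mul_inv_cancel_left]
    have hfk : σ' k = k := (hfixK k).2 hk
    have h2 : σ' (σ' (σ' y)) = y * k ^ 3 := by
      simp only [h1, map_mul, hfk]
      rw [pow_three, mul_assoc, mul_assoc]
    rw [pow_three_apply hσ'3] at h2
    have hk1 : k = 1 := eq_one_of_pow_three (not_dvd_card_quotient T h3) (left_eq_mul.1 h2)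
    rw [hk1, mul_one] at h1
    exact (hfixK y).1 h1
  rw [eq_top_iff]
  intro g _
  obtain ⟨c, hc, hcg⟩ := hall (g : G ⧸ T)
  have h5 : c⁻¹ * g ∈ T := QuotientGroup.eq.1 hcg
  have := (T ⊔ fixedSub σ).mul_mem (mem_sup_right hc) (mem_sup_left h5)
  rwa [mul_inv_cancel_left] at this

theorem pPrimePCore_sup_fixedSub [Group.IsSolvable G] {σ : MulAut G} (hσ : σ ^ 3 = 1)
    (h3 : ¬ 3 ∣ Nat.card G) (hodd : Odd (Nat.card (fixedSub σ)))
    (hab : ∀ x ∈ fixedSub σ, ∀ y ∈ fixedSub σ, x * y = y * x) :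
    Cfsg.pPrimePCore 2 G ⊔ fixedSub σ = ⊤ ∧ ¬ 2 ∣ (Cfsg.pPrimePCore 2 G).index := by
  set O := Cfsg.pPrimeCore 2 G
  haveI : O.Normal := inferInstance
  have hOσ : O.map σ.toMonoidHom = O := map_eq_of_mapsTo (mapsTo_pPrimeCore 2 σ)
  have hfix := fixedSub_quotAut hσ h3 O hOσ
  have h := pCore_sup_fixedSub (quotAut_pow_three hσ O hOσ) (not_dvd_card_quotient O h3)
    (by rw [hfix]; exact Odd.of_dvd_nat hodd (Subgroup.card_map_dvd _ _))
    (by rw [hfix]; rintro _ ⟨x, hx, rfl⟩ _ ⟨y, hy, rfl⟩; rw [← map_mul, ← map_mul, hab x hx y hy])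
    CfsgLib.PCore.pPrimeCore_quotient_pPrimeCore
  rw [hfix] at h
  have htop : Cfsg.pPrimePCore 2 G ⊔ fixedSub σ = ⊤ := by
    rw [eq_top_iff]
    intro g _
    have hg : (g : G ⧸ O) ∈ Cfsg.pCore 2 (G ⧸ O) ⊔ (fixedSub σ).map (QuotientGroup.mk' O) :=
      h ▸ Subgroup.mem_top _
    haveI : (Cfsg.pCore 2 (G ⧸ O)).Normal := inferInstance
    obtain ⟨t, ht, _, ⟨c, hc, rfl⟩, e⟩ := Subgroup.mem_sup_of_normal_left.1 hg
    have hgc : g * c⁻¹ ∈ Cfsg.pPrimePCore 2 G := by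
      show QuotientGroup.mk' O (g * c⁻¹) ∈ Cfsg.pCore 2 (G ⧸ O)
      have e' : (g : G ⧸ O) = t * QuotientGroup.mk' O c := e.symm
      rw [map_mul, map_inv, QuotientGroup.mk'_apply, QuotientGroup.mk'_apply, e',
        QuotientGroup.mk'_apply, mul_inv_cancel_right]
      exact ht
    have := (Cfsg.pPrimePCore 2 G ⊔ fixedSub σ).mul_mem (mem_sup_left hgc) (mem_sup_right hc)
    rwa [inv_mul_cancel_right] at this
  refine ⟨htop, fun h2 => ?_⟩
  haveI hPn : (Cfsg.pPrimePCore 2 G).Normal := inferInstance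
  have hsurj : (fixedSub σ).map (QuotientGroup.mk' (Cfsg.pPrimePCore 2 G)) = ⊤ := by
    have h6 := congrArg (Subgroup.map (QuotientGroup.mk' (Cfsg.pPrimePCore 2 G))) htop
    rw [Subgroup.map_sup, QuotientGroup.map_mk'_self, bot_sup_eq,
      Subgroup.map_top_of_surjective _ (QuotientGroup.mk'_surjective _)] at h6
    exact h6
  have h7 : (Cfsg.pPrimePCore 2 G).index ∣ Nat.card (fixedSub σ) := by
    rw [Subgroup.index_eq_card, ← Subgroup.card_top (G := G ⧸ Cfsg.pPrimePCore 2 G), ← hsurj]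
    exact Subgroup.card_map_dvd _ _
  exact Nat.not_even_iff_odd.2 hodd (even_iff_two_dvd.2 (h2.trans h7))

end CfsgLib.FpfSymThree
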